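import Cfsg.Agent.RuLat.Basic

/-!
# Coded vectors of norm sixteen of the rank 28 lattice (owner: helper52)

A code `z` holds a support mask (low 56 bits) and a sign mask (high bits); the nonzero
coordinates are `±4` for a one-element support and `±1` otherwise.
-/

set_option autoImplicit false

open Cfsg.Spor Cfsg.Agent.RuLat
open scoped BigOperators

namespace Cfsg.Agent.RuModel

/-- The support mask. -/
def wd (z : ℕ) : ℕ := z % 72057594037927936

/-- The sign mask. -/
def ng (z : ℕ) : ℕ := z / 72057594037927936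

theorem wd_lt (z : ℕ) : wd z < 2 ^ 56 := Nat.mod_lt _ (by norm_num)

/-- Bit counts of the 256 bytes, four bits each. -/
def pcT : ℕ := 0x8776766576656554766565546554544376656554655454436554544354434332766565546554544365545443544343326554544354434332544343324332322176656554655454436554544354434332655454435443433254434332433232216554544354434332544343324332322154434332433232214332322132212110

/-- Bit count of a byte. -/
def pcB (b : ℕ) : ℕ := (pcT >>> (4 * b)) % 16

/-- Bit count below 56. -/
def pc (w : ℕ) : ℕ :=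
  pcB (w % 256) + pcB ((w >>> 8) % 256) + pcB ((w >>> 16) % 256) + pcB ((w >>> 24) % 256)
    + pcB ((w >>> 32) % 256) + pcB ((w >>> 40) % 256) + pcB ((w >>> 48) % 256)

/-- A bit as a number. -/
def bit01 (w r : ℕ) : ℕ := if w.testBit r then 1 else 0

theorem pcB_eq : ∀ b < 256, pcB b = ∑ j ∈ Finset.range 8, bit01 b j := by decide +kernel

theorem byte_sum (w k : ℕ) :
    pcB ((w >>> k) % 256) = ∑ j ∈ Finset.range 8, bit01 w (k + j) := by
  rw [pcB_eq _ (Nat.mod_lt _ (by norm_num))]
  refine Finset.sum_congr rfl fun j hj ↦ ?_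
  have hj8 : j < 8 := Finset.mem_range.1 hj
  rw [bit01, bit01, show (256 : ℕ) = 2 ^ 8 from rfl, Nat.testBit_mod_two_pow, Nat.testBit_shiftRight]
  simp [hj8]

theorem pc_eq (w : ℕ) : pc w = ∑ r ∈ Finset.range 56, bit01 w r := by
  have h0 := byte_sum w 0
  rw [Nat.shiftRight_zero] at h0
  rw [pc, h0, byte_sum, byte_sum, byte_sum, byte_sum, byte_sum, byte_sum,
    show (56 : ℕ) = 8 + 8 + 8 + 8 + 8 + 8 + 8 from rfl]
  simp only [Finset.sum_range_add, Nat.zero_add]

/-- A bit as an integer. -/
def bz (w r : ℕ) : ℤ := if w.testBit r then 1 else 0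

theorem pc_cast (w : ℕ) : (pc w : ℤ) = ∑ r ∈ Finset.range 56, bz w r := by
  rw [pc_eq, Nat.cast_sum]
  exact Finset.sum_congr rfl fun r _ ↦ by unfold bit01 bz; split <;> simp

/-- The absolute value of the nonzero coordinates. -/
def sc (z : ℕ) : ℤ := if pc (wd z) = 1 then 4 else 1

/-- A flat coordinate of a code. -/
def cf (z r : ℕ) : ℤ := if (wd z).testBit r then (if (ng z).testBit r then -sc z else sc z) else 0

/-- The vector of a code. -/
def vec (z : ℕ) : RuVec := fun p ↦ ⟨cf z (2 * code p), cf z (2 * code p + 1)⟩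

theorem sc_cases (z : ℕ) : sc z = 4 ∨ sc z = 1 := by unfold sc; split <;> simp

theorem cf_bound (z r : ℕ) : -4 ≤ cf z r ∧ cf z r ≤ 4 := by
  rcases sc_cases z with h | h <;> unfold cf <;> rw [h] <;> split_ifs <;> omega

theorem code_lt (p : RuIdx) : code p < 28 := by
  unfold code; have := p.1.isLt; have := p.2.isLt; omega

/-- The index of a position. -/
def posIdx (c : ℕ) : RuIdx :=
  (⟨c / 4 % 7, Nat.mod_lt _ (by decide)⟩, ⟨c % 4, Nat.mod_lt _ (by decide)⟩)

theorem code_posIdx : ∀ c < 28, code (posIdx c) = c := by decide +kernel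

theorem posIdx_code : ∀ p : RuIdx, posIdx (code p) = p := by decide +kernel

theorem sum_code {M : Type*} [AddCommMonoid M] (g : ℕ → M) :
    ∑ p : RuIdx, g (code p) = ∑ c ∈ Finset.range 28, g c :=
  Finset.sum_nbij' (i := code) (j := posIdx) (fun p _ ↦ Finset.mem_range.2 (code_lt p))
    (fun c _ ↦ Finset.mem_univ _) (fun p _ ↦ posIdx_code p)
    (fun c hc ↦ code_posIdx c (Finset.mem_range.1 hc)) (fun p _ ↦ rfl)

theorem sum_pairs {M : Type*} [AddCommMonoid M] (h : ℕ → M) : ∀ n : ℕ,
    ∑ c ∈ Finset.range n, (h (2 * c) + h (2 * c + 1)) = ∑ r ∈ Finset.range (2 * n), h r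
  | 0 => by simp
  | n + 1 => by
    rw [Finset.sum_range_succ, sum_pairs h n, Nat.mul_succ, Finset.sum_range_succ, Finset.sum_range_succ]
    rw [add_assoc]

/-- A flat coordinate of a vector. -/
def co (x : RuVec) (r : ℕ) : ℤ := if r % 2 = 0 then (x (posIdx (r / 2))).re else (x (posIdx (r / 2))).im

theorem co_vec (z r : ℕ) (hr : r < 56) : co (vec z) r = cf z r := by
  unfold co vec
  rw [code_posIdx _ (by omega)]
  split
  · show cf z (2 * (r / 2)) = _
    congr 1; omega
  · show cf z (2 * (r / 2) + 1) = _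
    congr 1; omega

theorem co_two (x : RuVec) (p : RuIdx) :
    co x (2 * code p) = (x p).re ∧ co x (2 * code p + 1) = (x p).im := by
  unfold co
  rw [show 2 * code p / 2 = code p by omega, show (2 * code p + 1) / 2 = code p by omega, posIdx_code,
    if_pos (by omega), if_neg (by omega)]
  exact ⟨rfl, rfl⟩

theorem ext_co {x y : RuVec} (h : ∀ r < 56, co x r = co y r) : x = y := by
  funext p
  have hp := code_lt p
  have h1 := h (2 * code p) (by omega)
  have h2 := h (2 * code p + 1) (by omega)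
  rw [(co_two x p).1, (co_two y p).1] at h1
  rw [(co_two x p).2, (co_two y p).2] at h2
  exact Zsqrtd.ext h1 h2

theorem dot_co (x y : RuVec) : dot x y = ∑ r ∈ Finset.range 56, co x r * co y r := by
  rw [show (56 : ℕ) = 2 * 28 from rfl, ← sum_pairs (fun r ↦ co x r * co y r) 28, ← sum_code, dot]
  exact Finset.sum_congr rfl fun p _ ↦ by rw [(co_two x p).1, (co_two y p).1, (co_two x p).2, (co_two y p).2]

theorem co_zero (r : ℕ) : co 0 r = 0 := by unfold co; split <;> rfl

theorem co_add (x y : RuVec) (r : ℕ) : co (x + y) r = co x r + co y r := by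
  unfold co; split <;> simp

theorem co_neg (x : RuVec) (r : ℕ) : co (-x) r = -co x r := by
  unfold co; split <;> simp

theorem co_zsmul (k : ℤ) (x : RuVec) (r : ℕ) : co (k • x) r = k * co x r := by
  unfold co; split <;> simp [zsmul_eq_mul, Zsqrtd.re_mul, Zsqrtd.im_mul]

/-- `co` as a homomorphism. -/
def coHom (r : ℕ) : RuVec →+ ℤ where
  toFun x := co x r
  map_zero' := co_zero r
  map_add' x y := co_add x y r

/-- The real hermitian product of two codes. -/
def dotC (u v : ℕ) : ℤ :=
  sc u * sc v * ((pc (wd u &&& wd v) : ℤ) - 2 * (pc (wd u &&& wd v &&& (ng u ^^^ ng v)) : ℤ))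

theorem dot_vec (u v : ℕ) : dot (vec u) (vec v) = dotC u v := by
  rw [dot_co, dotC, pc_cast, pc_cast, Finset.mul_sum, ← Finset.sum_sub_distrib, Finset.mul_sum]
  refine Finset.sum_congr rfl fun r hr ↦ ?_
  rw [co_vec _ _ (Finset.mem_range.1 hr), co_vec _ _ (Finset.mem_range.1 hr)]
  simp only [cf, bz, Nat.testBit_and, Nat.testBit_xor]
  cases (wd u).testBit r <;> cases (wd v).testBit r <;> cases (ng u).testBit r <;>
    cases (ng v).testBit r <;> simp

/-- A code with signs inside the support. -/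
def Good (z : ℕ) : Prop := ng z &&& wd z = ng z

theorem Good.sub {z : ℕ} (h : Good z) (r : ℕ) (hn : (ng z).testBit r = true) :
    (wd z).testBit r = true := by
  have := congrArg (Nat.testBit · r) h
  simp only [Nat.testBit_and, hn, Bool.true_and] at this
  exact this

/-- The even positions. -/
def evMask : ℕ := 0x55555555555555

theorem evMask_bits : ∀ r < 56, evMask.testBit r = decide (r % 2 = 0) := by decide +kernel

theorem evMask_high (r : ℕ) (hr : 56 ≤ r) : evMask.testBit r = false :=
  Nat.testBit_eq_false_of_lt (lt_of_lt_of_le (show evMask < 2 ^ 56 by norm_num [evMask])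
    (Nat.pow_le_pow_right (by norm_num) hr))

/-- The two masks after multiplication by `i`. -/
def iW (w : ℕ) : ℕ := ((w &&& evMask) <<< 1) ||| ((w >>> 1) &&& evMask)

/-- Multiplication of a code by `i`. -/
def iC (z : ℕ) : ℕ :=
  iW (wd z) + 72057594037927936 *
    (((ng z &&& evMask) <<< 1) ||| (((wd z ^^^ ng z) >>> 1) &&& evMask))

theorem iW_lt (w : ℕ) : iW w < 2 ^ 56 := by
  refine Nat.lt_pow_two_of_testBit _ fun r hr ↦ ?_
  simp only [iW, Nat.testBit_or, Nat.testBit_shiftLeft, Nat.testBit_and, evMask_high r hr,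
    Bool.and_false, Bool.or_false]
  rcases Nat.eq_or_lt_of_le hr with h | h
  · subst h
    simp [evMask_bits 55 (by norm_num)]
  · simp [evMask_high (r - 1) (by omega)]

theorem wd_iC (z : ℕ) : wd (iC z) = iW (wd z) := by
  rw [wd, iC, Nat.add_mul_mod_self_left]
  exact Nat.mod_eq_of_lt (iW_lt _)

theorem ng_iC (z : ℕ) :
    ng (iC z) = ((ng z &&& evMask) <<< 1) ||| (((wd z ^^^ ng z) >>> 1) &&& evMask) := by
  rw [ng, iC, Nat.add_mul_div_left _ _ (by norm_num), Nat.div_eq_of_lt (show iW (wd z) < 72057594037927936 from iW_lt _), Nat.zero_add]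

theorem iW_bits (w c : ℕ) (hc : c < 28) :
    (iW w).testBit (2 * c) = w.testBit (2 * c + 1) ∧ (iW w).testBit (2 * c + 1) = w.testBit (2 * c) := by
  constructor
  · simp only [iW, Nat.testBit_or, Nat.testBit_shiftLeft, Nat.testBit_and, Nat.testBit_shiftRight,
      evMask_bits (2 * c) (by omega)]
    rcases Nat.eq_zero_or_pos c with h | h
    · subst h; simp
    · rw [evMask_bits (2 * c - 1) (by omega), Nat.add_comm 1 (2 * c)]
      have : ¬ (2 * c - 1) % 2 = 0 := by omega
      simp [this]
  · simp only [iW, Nat.testBit_or, Nat.testBit_shiftLeft, Nat.testBit_and, Nat.testBit_shiftRight,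
      evMask_bits (2 * c + 1) (by omega)]
    rw [show 2 * c + 1 - 1 = 2 * c by omega, evMask_bits (2 * c) (by omega)]
    simp

theorem pc_iW (w : ℕ) : pc (iW w) = pc w := by
  rw [pc_eq, pc_eq, show (56 : ℕ) = 2 * 28 from rfl, ← sum_pairs (bit01 (iW w)) 28,
    ← sum_pairs (bit01 w) 28]
  refine Finset.sum_congr rfl fun c hc ↦ ?_
  obtain ⟨h1, h2⟩ := iW_bits w c (Finset.mem_range.1 hc)
  simp only [bit01, h1, h2]
  rw [Nat.add_comm]

theorem cf_iC {z : ℕ} (hz : Good z) (c : ℕ) (hc : c < 28) :
    cf (iC z) (2 * c) = -cf z (2 * c + 1) ∧ cf (iC z) (2 * c + 1) = cf z (2 * c) := by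
  have hs : sc (iC z) = sc z := by rw [sc, sc, wd_iC, pc_iW]
  obtain ⟨h1, h2⟩ := iW_bits (wd z) c hc
  have hn1 : (ng (iC z)).testBit (2 * c) =
      ((wd z).testBit (2 * c + 1) ^^ (ng z).testBit (2 * c + 1)) := by
    simp only [ng_iC, Nat.testBit_or, Nat.testBit_shiftLeft, Nat.testBit_and, Nat.testBit_shiftRight,
      Nat.testBit_xor, evMask_bits (2 * c) (by omega)]
    rcases Nat.eq_zero_or_pos c with h | h
    · subst h; simp
    · rw [evMask_bits (2 * c - 1) (by omega), Nat.add_comm 1 (2 * c)]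
      have : ¬ (2 * c - 1) % 2 = 0 := by omega
      simp [this]
  have hn2 : (ng (iC z)).testBit (2 * c + 1) = (ng z).testBit (2 * c) := by
    simp only [ng_iC, Nat.testBit_or, Nat.testBit_shiftLeft, Nat.testBit_and, Nat.testBit_shiftRight,
      evMask_bits (2 * c + 1) (by omega)]
    rw [show 2 * c + 1 - 1 = 2 * c by omega, evMask_bits (2 * c) (by omega)]
    simp
  constructor
  · simp only [cf, hs, wd_iC, h1, hn1]
    cases hw : (wd z).testBit (2 * c + 1)
    · simp
    · cases (ng z).testBit (2 * c + 1) <;> simp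
  · simp only [cf, hs, wd_iC, h2, hn2]

theorem good_iC {z : ℕ} (hz : Good z) : Good (iC z) := by
  refine Nat.eq_of_testBit_eq fun r ↦ ?_
  simp only [ng_iC, wd_iC, iW, Nat.testBit_or, Nat.testBit_shiftLeft, Nat.testBit_and,
    Nat.testBit_shiftRight, Nat.testBit_xor]
  have h1 := hz.sub (r - 1)
  have h2 := hz.sub (1 + r)
  revert h1 h2
  cases (ng z).testBit (r - 1) <;> cases (wd z).testBit (r - 1) <;> cases (ng z).testBit (1 + r) <;>
    cases (wd z).testBit (1 + r) <;> cases evMask.testBit (r - 1) <;> cases evMask.testBit r <;>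
    cases decide (r ≥ 1) <;> simp

theorem vec_iC {z : ℕ} (hz : Good z) : vec (iC z) = iMul (vec z) := by
  funext p
  obtain ⟨h1, h2⟩ := cf_iC hz (code p) (code_lt p)
  exact Zsqrtd.ext h1 h2

/-- `iC` iterated. -/
def unitC : ℕ → ℕ → ℕ
  | 0, z => z
  | k + 1, z => iC (unitC k z)

end Cfsg.Agent.RuModel
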