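import Cfsg.Agent.RuModel.Pts
import Cfsg.Agent.RuModel.Lat

/-!
# Combinations of the basis of the lattice (owner: helper52)
-/

set_option autoImplicit false
set_option maxRecDepth 4000

open Cfsg.Spor Cfsg.Agent.RuLat Cfsg.Agent.CosetCert
open scoped BigOperators

namespace Cfsg.Agent.RuModel

/-- A basis code. -/
noncomputable def bas (t : ℕ) : ℕ := Dat.basisL.getD t 1

/-- A raw coefficient. -/
def raw (C t : ℕ) : ℕ := C / 131072 ^ t % 131072

/-- The combination of packed coefficients. -/
noncomputable def combB (C : ℕ) : RuVec :=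
  ∑ t ∈ Finset.range 56, ((raw C t : ℤ) - 65536) • vec (bas t)

/-- The weighted sum of the packed basis. -/
noncomputable def combN (l : List ℕ) : ℕ → ℕ :=
  List.rec (motive := fun _ => ℕ → ℕ) (fun _ ↦ 0)
    (fun p _ ih C ↦ Nat.add (Nat.mul (Nat.mod C 131072) p) (ih (Nat.div C 131072))) l

/-- The sum of the packed basis. -/
noncomputable def sumP (l : List ℕ) : ℕ :=
  List.rec (motive := fun _ => ℕ) 0 (fun p _ ih ↦ Nat.add p ih) l

/-- A combination has a given packed value. -/
noncomputable def chkComb (C t : ℕ) : Bool :=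
  Nat.beq (Nat.mod (combN Dat.basisP C) (NN 28))
    (Nat.mod (Nat.add t (Nat.mul 65536 (sumP Dat.basisP))) (NN 28))

theorem basisP_ok : ∀ t : Fin 56,
    Nat.beq (Nat.mod (Dat.basisP.getD t.val 0) (NN 28)) (Nat.mod (packN 28 (bas t.val)) (NN 28)) = true := by
  decide +kernel

theorem basisP_length : Dat.basisP.length = 56 := by decide +kernel

theorem combN_spec : ∀ (l : List ℕ) (C : ℕ), combN l C =
    ∑ t ∈ Finset.range l.length, raw C t * l.getD t 0
  | [], C => rfl
  | p :: l, C => by
    show Nat.add (Nat.mul (Nat.mod C 131072) p) (combN l (Nat.div C 131072)) = _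
    rw [combN_spec l, List.length_cons, Finset.sum_range_succ', Nat.add_eq, add_comm]
    congr 1
    · refine Finset.sum_congr rfl fun t _ ↦ ?_
      rw [List.getD_cons_succ]
      congr 1
      unfold raw
      rw [pow_succ', ← Nat.div_div_eq_div_mul]
      rfl
    · rw [List.getD_cons_zero]
      show C % 131072 * p = _
      simp [raw]

theorem sumP_spec : ∀ l : List ℕ, sumP l = ∑ t ∈ Finset.range l.length, l.getD t 0
  | [] => rfl
  | p :: l => by
    show Nat.add p (sumP l) = _
    rw [sumP_spec l, List.length_cons, Finset.sum_range_succ', Nat.add_eq, add_comm]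
    rfl

theorem chkComb_spec {C t : ℕ} (h : chkComb C t = true) : packV 28 (combB C) = (t : ZMod (NN 28)) := by
  have hp : ∀ i, i ∈ Finset.range 56 → ((Dat.basisP.getD i 0 : ℕ) : ZMod (NN 28)) = packV 28 (vec (bas i)) :=
    fun i hi ↦ by
      rw [← packN_spec (by norm_num)]
      exact cast_of_mod (basisP_ok ⟨i, Finset.mem_range.1 hi⟩)
  have hm := cast_of_mod h
  simp only [Nat.add_eq, Nat.mul_eq, Nat.cast_add, Nat.cast_mul, combN_spec, sumP_spec, basisP_length,
    Nat.cast_sum, Nat.cast_ofNat] at hm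
  rw [combB, map_sum]
  have e : ∀ i ∈ Finset.range 56, packV 28 (((raw C i : ℤ) - 65536) • vec (bas i)) =
      (raw C i : ZMod (NN 28)) * (Dat.basisP.getD i 0 : ℕ) - 65536 * (Dat.basisP.getD i 0 : ℕ) := by
    intro i hi
    rw [map_zsmul, zsmul_eq_mul, hp i hi]
    push_cast
    ring
  rw [Finset.sum_congr rfl e, Finset.sum_sub_distrib, hm, ← Finset.mul_sum]
  ring

theorem abs_co_combB (C r : ℕ) (hr : r < 56) : |co (combB C) r| ≤ 56 * (65536 * 4) := by
  show |coHom r (combB C)| ≤ _
  rw [combB, map_sum]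
  refine (Finset.abs_sum_le_sum_abs _ _).trans ?_
  refine (Finset.sum_le_card_nsmul _ _ (65536 * 4 : ℤ) fun i _ ↦ ?_).trans (by simp)
  rw [map_zsmul, smul_eq_mul, abs_mul]
  refine mul_le_mul ?_ (abs_co_vec _ _ hr) (abs_nonneg _) (by norm_num)
  have := Nat.mod_lt (C / 131072 ^ i) (show 131072 > 0 by norm_num)
  unfold raw
  rw [abs_le]
  omega

theorem combB_eq {C t : ℕ} {x : RuVec} (hx : ∀ r < 56, |co x r| ≤ 16)
    (ht : (t : ZMod (NN 28)) = packV 28 x) (h : chkComb C t = true) : combB C = x := by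
  refine packV_inj (k := 28) (fun r hr ↦ ?_) ((chkComb_spec h).trans ht)
  refine lt_of_le_of_lt ((abs_sub _ _).trans (add_le_add (abs_co_combB C r hr) (hx r hr))) ?_
  norm_num [BS]

theorem combB_code {C z : ℕ} (h : chkComb C (packN 28 z) = true) : combB C = vec z :=
  combB_eq (fun r hr ↦ (abs_co_vec z r hr).trans (by norm_num)) (packN_spec (by norm_num) z) h

end Cfsg.Agent.RuModel
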