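import Cfsg.Agent.RuModel.CompFun
import Cfsg.Agent.RuModel.Comb

/-! Checks for the completeness of the list of short vectors (owner: helper52). -/

set_option autoImplicit false
set_option maxRecDepth 4000

open Cfsg.Agent.CosetCert

namespace Cfsg.Agent.RuModel

theorem dfs0_ok : dfs Dat.info0 5 0 = true := by decide +kernel

theorem dfs1_ok : dfs Dat.info1 5 0 = true := by decide +kernel

theorem dfs2_ok : dfs Dat.info2 5 0 = true := by decide +kernel

theorem info0_basis : ∀ t : Fin 56,
    Nat.beq (selX Dat.info0 (pCode (bas t.val))) (pCode (bas t.val)) = true := by decide +kernel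

theorem info1_basis : ∀ t : Fin 56,
    Nat.beq (selX Dat.info1 (pCode (bas t.val))) (pCode (bas t.val)) = true := by decide +kernel

theorem info2_basis : ∀ t : Fin 56,
    Nat.beq (selX Dat.info2 (pCode (bas t.val))) (pCode (bas t.val)) = true := by decide +kernel

theorem info_perm : List.Perm
    ((Dat.info0 ++ Dat.info1 ++ Dat.info2).map Prod.fst) (Dat.infoDup :: List.range 56) := by
  decide +kernel

theorem colF_ok : Dat.colF.all gOK = true := by decide +kernel

theorem pairP_ok : allB (fun i ↦ Nat.ble 3584 i || (Nat.ble 56 (Nat.mod i 64) ||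
    (Nat.ble (Nat.mod i 64) (Nat.div i 64) || (Nat.blt (Dat.pairP.get 16 i) 1540 &&
      Nat.beq (Dat.pairS.get 16 (Dat.pairP.get 16 i)) i)))) 12 0 = true := by
  decide +kernel

theorem pairS_ok : allB (fun j ↦ Nat.ble 1539 j ||
    Nat.blt (pairKey (Dat.pairS.get 16 j)) (pairKey (Dat.pairS.get 16 (Nat.add j 1)))) 11 0 = true := by
  decide +kernel

theorem axis_ok : allB (fun i ↦ Nat.ble 112 i || (Nat.blt (Dat.axisK.getD i 16240) 16240 &&
    Nat.beq (codeK (Dat.axisK.getD i 16240))
      (Nat.add (Nat.shiftLeft 1 (Nat.div i 2)) (Nat.mul (Nat.mul 72057594037927936 (Nat.mod i 2))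
        (Nat.shiftLeft 1 (Nat.div i 2)))))) 7 0 = true := by
  decide +kernel

end Cfsg.Agent.RuModel
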