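import Cfsg.Agent.RuModel.CompFun

/-! The certificates of the supports, part 0 (owner: helper52). -/

set_option autoImplicit false
set_option maxRecDepth 4000
set_option Elab.async false

namespace Cfsg.Agent.RuModel

theorem wordsT0_ok : treeAll Dat.wordsT0 = true := by decide +kernel

theorem wordsT1_ok : treeAll Dat.wordsT1 = true := by decide +kernel

theorem wordsT2_ok : treeAll Dat.wordsT2 = true := by decide +kernel

theorem wordsT3_ok : treeAll Dat.wordsT3 = true := by decide +kernel

end Cfsg.Agent.RuModel
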