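import Cfsg.Agent.RuModel.CompFun

/-! The certificates of the supports, part 1 (owner: helper52). -/

set_option autoImplicit false
set_option maxRecDepth 4000
set_option Elab.async false

namespace Cfsg.Agent.RuModel

theorem wordsT4_ok : treeAll Dat.wordsT4 = true := by decide +kernel

theorem wordsT5_ok : treeAll Dat.wordsT5 = true := by decide +kernel

theorem wordsT6_ok : treeAll Dat.wordsT6 = true := by decide +kernel

theorem wordsT7_ok : treeAll Dat.wordsT7 = true := by decide +kernel

end Cfsg.Agent.RuModel
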