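import Cfsg.Agent.RuModel.Pts
import Cfsg.Agent.RuModel.Words

/-!
# Checking the supports of short vectors (owner: helper52)
-/

set_option autoImplicit false
set_option maxRecDepth 4000

open Cfsg.Agent.CosetCert

namespace Cfsg.Agent.RuModel

open Dat (WC WT)

/-- Support of a point. -/
noncomputable def gW (g : ℕ) : ℕ := wdN (codeK g)

/-- The parity required by a functional. -/
noncomputable def rhsN (p g : ℕ) : ℕ :=
  Nat.mod (Nat.add (pcN (Nat.land (Nat.land p (gW g)) (ngN (codeK g))))
    (Nat.div (pcN (Nat.land p (gW g))) 2)) 2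

/-- A usable functional. -/
noncomputable def gOK (g : ℕ) : Bool := Nat.blt g 16240 && Nat.beq (pcN (gW g)) 16

/-- The steps are well formed from the decided set. -/
noncomputable def stepsOK (p : ℕ) (l : List ℕ) : ℕ → Bool :=
  List.rec (motive := fun _ => ℕ → Bool) (fun dec ↦ Nat.beq dec p)
    (fun s _ ih dec ↦
      let x := Nat.shiftLeft 1 (Nat.mod s 64)
      let g := Nat.sub (Nat.div s 64) 1
      Nat.beq (Nat.land p x) x && (Nat.beq (Nat.land dec x) 0 &&
        ((Nat.blt s 64 || (gOK g && (Nat.beq (Nat.land (Nat.land p (gW g)) x) x &&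
          Nat.beq (Nat.lor (Nat.land p (gW g)) (Nat.lor dec x)) (Nat.lor dec x)))) &&
            ih (Nat.lor dec x)))) l

/-- The candidates left by the steps. -/
noncomputable def lvs (p : ℕ) (l : List ℕ) : ℕ → List ℕ :=
  List.rec (motive := fun _ => ℕ → List ℕ) (fun n ↦ [n])
    (fun s _ ih n ↦
      let x := Nat.shiftLeft 1 (Nat.mod s 64)
      let g := Nat.sub (Nat.div s 64) 1
      cond (Nat.blt s 64) (ih n ++ ih (Nat.lor n x))
        (cond (Nat.beq (Nat.mod (pcN (Nat.land n (gW g))) 2) (rhsN p g)) (ih n) (ih (Nat.lor n x)))) l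

/-- The candidates are the listed points. -/
noncomputable def lvEq (p : ℕ) (ns : List ℕ) : List ℕ → Bool :=
  List.rec (motive := fun _ => List ℕ → Bool) (fun _ ↦ true)
    (fun n _ ih ks ↦ List.rec (motive := fun _ => Bool) false
      (fun k rest _ ↦ Nat.blt k 16240 &&
        (Nat.beq (codeK k) (Nat.add p (Nat.mul 72057594037927936 n)) && ih rest)) ks) ns

/-- The xor of the supports of functionals. -/
noncomputable def hW (gs : List ℕ) : ℕ :=
  List.rec (motive := fun _ => ℕ) 0 (fun g _ ih ↦ Nat.xor (gW g) ih) gs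

/-- The xor of their parities. -/
noncomputable def hR (p : ℕ) (gs : List ℕ) : ℕ :=
  List.rec (motive := fun _ => ℕ) 0 (fun g _ ih ↦ Nat.mod (Nat.add (rhsN p g) ih) 2) gs

/-- A few signs outside the support violate some combination. -/
noncomputable def refuted (p : ℕ) (fs : List (List ℕ)) (e : ℕ) : Bool :=
  fs.any fun gs ↦ !Nat.beq (Nat.mod (pcN (Nat.land e (hW gs))) 2) (hR p gs)

/-- A pair of positions inside the support is skipped. -/
noncomputable def pairE (p : ℕ) (fs : List (List ℕ)) (a b : ℕ) : Bool :=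
  !Nat.beq (Nat.land (Nat.lor (Nat.shiftLeft 1 a) (Nat.shiftLeft 1 b)) p) 0 ||
    refuted p fs (Nat.lor (Nat.shiftLeft 1 a) (Nat.shiftLeft 1 b))

/-- The certificate of one support. -/
noncomputable def certOK (p : ℕ) (c : WC) : Bool :=
  WC.rec (motive := fun _ => Bool)
    (fun steps ks ↦ Nat.beq (pcN p) 16 && (stepsOK p steps 0 && lvEq p (lvs p steps 0) ks))
    (fun g1 g2 ↦ Nat.beq (pcN p) 16 && (gOK g1 && (gOK g2 &&
      (Nat.beq (Nat.land p (gW g1)) (Nat.land p (gW g2)) && !Nat.beq (rhsN p g1) (rhsN p g2)))))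
    (fun fs ↦ Nat.beq (pcN p) 8 && (fs.all (fun gs ↦ Nat.beq (Nat.land (hW gs) p) 0 && gs.all gOK) &&
      (refuted p fs 0 && allB (fun a ↦ Nat.ble 56 a ||
        allB (fun b ↦ Nat.ble 56 b || (Nat.blt b a || pairE p fs a b)) 6 0) 6 0)))
    (Nat.beq p 0) c

/-- All certificates of a tree. -/
noncomputable def treeAll (t : WT) : Bool :=
  WT.rec (motive := fun _ => Bool) true (fun w c _ _ il ir ↦ certOK w c && (il && ir)) t

/-- Membership in a tree. -/
noncomputable def memT (t : WT) (p : ℕ) : Bool :=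
  WT.rec (motive := fun _ => Bool) false
    (fun w _ _ _ il ir ↦ cond (Nat.beq w p) true (cond (Nat.blt p w) il ir)) t

/-- The supports. -/
def wordTrees : List WT :=
  [Dat.wordsT0, Dat.wordsT1, Dat.wordsT2, Dat.wordsT3, Dat.wordsT4, Dat.wordsT5, Dat.wordsT6, Dat.wordsT7]

/-- The number of lower bounds below a support. -/
noncomputable def slot (l : List ℕ) (p : ℕ) : ℕ :=
  List.rec (motive := fun _ => ℕ) 0 (fun c _ ih ↦ cond (Nat.ble c p) (Nat.add ih 1) ih) l

/-- Membership among all supports. -/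
noncomputable def memW (p : ℕ) : Bool := memT (wordTrees.getD (slot Dat.wordsCut p) .nil) p

/-- All supports of weight at most sixteen spanned by few generators are listed. -/
noncomputable def dfs (l : List (ℕ × ℕ)) : ℕ → ℕ → Bool :=
  List.rec (motive := fun _ => ℕ → ℕ → Bool) (fun _ acc ↦ Nat.blt 16 (pcN acc) || memW acc)
    (fun g _ ih b acc ↦ ih b acc && (Nat.beq b 0 || ih (Nat.sub b 1) (Nat.xor acc g.2))) l

/-- The word of chosen generators. -/
noncomputable def selX (l : List (ℕ × ℕ)) (p : ℕ) : ℕ :=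
  List.rec (motive := fun _ => ℕ) 0
    (fun g _ ih ↦ cond (Nat.testBit p g.1) (Nat.xor g.2 ih) ih) l

/-- The parity mask of a code. -/
noncomputable def pCode (z : ℕ) : ℕ := cond (Nat.beq (pcN (wdN z)) 1) 0 (wdN z)

/-- The column of a position. -/
noncomputable def colN (r : ℕ) (l : List ℕ) : ℕ :=
  List.rec (motive := fun _ => ℕ) 0
    (fun g _ ih ↦ Nat.add (cond (Nat.testBit (gW g) r) 1 0) (Nat.mul 2 ih)) l

/-- The key of a pair of positions. -/
noncomputable def pairKey (i : ℕ) : ℕ :=
  Nat.xor (colN (Nat.div i 64) Dat.colF) (colN (Nat.mod i 64) Dat.colF)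

end Cfsg.Agent.RuModel
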