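import Cfsg.Agent.RuModel.Code
import Cfsg.Agent.CosetCert.Basic

/-!
# Vectors packed into one number, for the kernel (owner: helper52)
-/

set_option autoImplicit false

open Cfsg.Spor Cfsg.Agent.RuLat Cfsg.Agent.CosetCert
open scoped BigOperators

namespace Cfsg.Agent.RuModel

/-- The digit base. -/
def BS (k : ℕ) : ℕ := 2 ^ k

/-- The modulus. -/
def NN (k : ℕ) : ℕ := 2 ^ (k * 56)

theorem NN_eq (k : ℕ) : NN k = BS k ^ 56 := pow_mul 2 k 56

/-- The packed value of a coordinate list. -/
def packZ (k n : ℕ) (f : ℕ → ℤ) : ℤ := ∑ r ∈ Finset.range n, f r * (BS k : ℤ) ^ r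

theorem packZ_succ (k n : ℕ) (f : ℕ → ℤ) :
    packZ k (n + 1) f = f 0 + (BS k : ℤ) * packZ k n (fun r ↦ f (r + 1)) := by
  rw [packZ, Finset.sum_range_succ', packZ, Finset.mul_sum, pow_zero, mul_one, add_comm]
  congr 1
  exact Finset.sum_congr rfl fun r _ ↦ by rw [pow_succ]; ring

theorem packZ_small (k : ℕ) : ∀ n f, (∀ r < n, |f r| < (BS k : ℤ)) →
    (BS k : ℤ) ^ n ∣ packZ k n f → ∀ r < n, f r = 0
  | 0, _, _, _, _, hr => absurd hr (Nat.not_lt_zero _)
  | n + 1, f, hb, hd, r, hr => by
    rw [packZ_succ, pow_succ'] at hd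
    have h0 : f 0 = 0 := by
      have hd' : (BS k : ℤ) ∣ f 0 := by
        have := dvd_sub (dvd_trans (dvd_mul_right _ _) hd)
          (dvd_mul_right (BS k : ℤ) (packZ k n fun r ↦ f (r + 1)))
        simpa using this
      exact Int.eq_zero_of_abs_lt_dvd hd' (hb 0 (by omega))
    rw [h0, zero_add] at hd
    have hne : (BS k : ℤ) ≠ 0 := by unfold BS; positivity
    have := packZ_small k n (fun r ↦ f (r + 1)) (fun r hr ↦ hb (r + 1) (by omega))
      ((mul_dvd_mul_iff_left hne).1 hd)
    rcases r with _ | r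
    · exact h0
    · exact this r (by omega)

/-- The packed value of a vector modulo the modulus. -/
def packV (k : ℕ) : RuVec →+ ZMod (NN k) where
  toFun x := (packZ k 56 (co x) : ZMod (NN k))
  map_zero' := by simp [packZ, co_zero]
  map_add' x y := by
    rw [← Int.cast_add, packZ, packZ, packZ, ← Finset.sum_add_distrib]
    congr 1
    exact Finset.sum_congr rfl fun r _ ↦ by rw [co_add]; ring

theorem packV_inj {k : ℕ} {x y : RuVec} (hb : ∀ r < 56, |co x r - co y r| < (BS k : ℤ))
    (h : packV k x = packV k y) : x = y := by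
  refine ext_co fun r hr ↦ sub_eq_zero.1 (packZ_small k 56 (fun r ↦ co x r - co y r) hb ?_ r hr)
  have h' : ((packZ k 56 (co x) : ℤ) : ZMod (NN k)) = ((packZ k 56 (co y) : ℤ) : ZMod (NN k)) := h
  rw [ZMod.intCast_eq_intCast_iff_dvd_sub, NN_eq, Nat.cast_pow] at h'
  have e : packZ k 56 (fun r ↦ co x r - co y r) = -(packZ k 56 (co y) - packZ k 56 (co x)) := by
    simp only [packZ, sub_mul, Finset.sum_sub_distrib, neg_sub]
  rw [e]
  exact dvd_neg.2 h'

/-- Kernel version of the scale of a code. -/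
noncomputable def pcN (w : ℕ) : ℕ :=
  let b := fun (s : ℕ) ↦ Nat.mod (Nat.shiftRight pcT (Nat.mul 4 (Nat.mod (Nat.shiftRight w s) 256))) 16
  Nat.add (Nat.add (Nat.add (Nat.add (Nat.add (Nat.add (b 0) (b 8)) (b 16)) (b 24)) (b 32)) (b 40)) (b 48)

theorem pcN_eq (w : ℕ) : pcN w = pc w := rfl

/-- The support of a code. -/
noncomputable def wdN (z : ℕ) : ℕ := Nat.mod z 72057594037927936

/-- The sign mask of a code. -/
noncomputable def ngN (z : ℕ) : ℕ := Nat.div z 72057594037927936

theorem wdN_eq (z : ℕ) : wdN z = wd z := rfl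

theorem ngN_eq (z : ℕ) : ngN z = ng z := rfl

/-- The scale of a code. -/
noncomputable def scN (z : ℕ) : ℕ := cond (Nat.beq (pcN (wdN z)) 1) 4 1

theorem scN_eq (z : ℕ) : (scN z : ℤ) = sc z := by
  rw [scN, sc, pcN_eq, wdN_eq]
  cases h : Nat.beq (pc (wd z)) 1 with
  | true => rw [if_pos (Nat.eq_of_beq_eq_true h)]; rfl
  | false => rw [if_neg fun e ↦ by rw [e] at h; exact Bool.noConfusion h]; rfl

/-- The product of two codes, shifted by 4096. -/
noncomputable def dN (u v : ℕ) : ℕ :=
  Nat.sub (Nat.add 4096 (Nat.mul (Nat.mul (scN u) (scN v)) (pcN (Nat.land (wdN u) (wdN v)))))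
    (Nat.mul (Nat.mul 2 (Nat.mul (scN u) (scN v)))
      (pcN (Nat.land (Nat.land (wdN u) (wdN v)) (Nat.xor (ngN u) (ngN v)))))

theorem pc_le (w : ℕ) : pc w ≤ 56 := by
  rw [pc_eq]
  calc ∑ r ∈ Finset.range 56, bit01 w r ≤ ∑ _r ∈ Finset.range 56, 1 :=
        Finset.sum_le_sum fun r _ ↦ by unfold bit01; split <;> omega
    _ = 56 := by simp

theorem dN_eq (u v : ℕ) : (dN u v : ℤ) = dotC u v + 4096 := by
  have hs : scN u * scN v ≤ 16 := by
    have : ∀ z, scN z ≤ 4 := fun z ↦ by unfold scN; cases Nat.beq (pcN (wdN z)) 1 <;> decide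
    calc scN u * scN v ≤ 4 * 4 := Nat.mul_le_mul (this u) (this v)
      _ = 16 := rfl
  have hb := pc_le (wd u &&& wd v &&& (ng u ^^^ ng v))
  show ((4096 + scN u * scN v * pc (wd u &&& wd v) -
    2 * (scN u * scN v) * pc (wd u &&& wd v &&& (ng u ^^^ ng v)) : ℕ) : ℤ) = _
  have hle : 2 * (scN u * scN v) * pc (wd u &&& wd v &&& (ng u ^^^ ng v)) ≤ 4096 := by
    calc 2 * (scN u * scN v) * pc (wd u &&& wd v &&& (ng u ^^^ ng v)) ≤ 2 * 16 * 56 := by gcongr
      _ ≤ 4096 := by norm_num
  rw [Nat.cast_sub (by omega), dotC, ← scN_eq, ← scN_eq]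
  push_cast
  ring

/-- Packed value of a code. -/
noncomputable def packN (k z : ℕ) : ℕ :=
  Nat.rec (motive := fun _ ↦ ℕ) 0
    (fun r ih ↦ Nat.add ih
      (cond (Nat.testBit (wdN z) r)
        (cond (Nat.testBit (ngN z) r)
          (Nat.sub (NN k) (Nat.mul (scN z) (Nat.shiftLeft 1 (Nat.mul k r))))
          (Nat.mul (scN z) (Nat.shiftLeft 1 (Nat.mul k r)))) 0))
    56

theorem packN_spec {k : ℕ} (hk : 3 ≤ k) (z : ℕ) : (packN k z : ZMod (NN k)) = packV k (vec z) := by
  have key : ∀ n ≤ 56, ((Nat.rec (motive := fun _ ↦ ℕ) 0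
      (fun r ih ↦ Nat.add ih
        (cond (Nat.testBit (wdN z) r)
          (cond (Nat.testBit (ngN z) r)
            (Nat.sub (NN k) (Nat.mul (scN z) (Nat.shiftLeft 1 (Nat.mul k r))))
            (Nat.mul (scN z) (Nat.shiftLeft 1 (Nat.mul k r)))) 0)) n : ℕ) : ZMod (NN k)) =
      ((packZ k n (co (vec z)) : ℤ) : ZMod (NN k)) := by
    intro n
    induction n with
    | zero => intro _; simp [packZ]
    | succ n ih =>
      intro hn
      show ((Nat.add _ _ : ℕ) : ZMod (NN k)) = _
      rw [Nat.add_eq, Nat.cast_add, ih (by omega)]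
      have e : packZ k (n + 1) (co (vec z)) = packZ k n (co (vec z)) + cf z n * (BS k : ℤ) ^ n := by
        rw [packZ, Finset.sum_range_succ, packZ, co_vec z n (by omega)]
      rw [e, Int.cast_add]
      congr 1
      have hp : Nat.shiftLeft 1 (Nat.mul k n) = BS k ^ n := by
        show 1 <<< (k * n) = _
        rw [Nat.shiftLeft_eq, one_mul, BS, ← pow_mul]
      have hle : scN z * BS k ^ n ≤ NN k := by
        rw [NN_eq, show 56 = (56 - n) + n by omega, pow_add]
        refine Nat.mul_le_mul ?_ le_rfl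
        have h8 : scN z ≤ 8 := by unfold scN; cases Nat.beq (pcN (wdN z)) 1 <;> decide
        refine h8.trans (le_trans ?_ (Nat.le_self_pow (by omega) _))
        exact (show (8 : ℕ) = 2 ^ 3 from rfl) ▸ Nat.pow_le_pow_right (by norm_num) hk
      rw [hp, cf, ← scN_eq, wdN_eq, ngN_eq]
      cases (wd z).testBit n <;> cases (ng z).testBit n <;>
        simp only [cond_true, cond_false, if_true, if_false, Bool.false_eq_true,
          Nat.mul_eq, Nat.sub_eq]
      · simp
      · simp
      · push_cast; ring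
      · rw [Nat.cast_sub hle, ZMod.natCast_self]
        push_cast
        ring
  exact key 56 le_rfl

/-- The value at the leaf of an index. -/
noncomputable def leafAt (t : PTree) : ℕ → ℕ :=
  PTree.rec (motive := fun _ => ℕ → ℕ) (fun n _ ↦ n)
    (fun _ _ gl gr i ↦ cond (Nat.beq (Nat.mod i 2) 0) (gl (Nat.div i 2)) (gr (Nat.div i 2))) t

/-- Sum of the table entries selected by the nibbles. -/
noncomputable def sumT (l : List PTree) : ℕ → ℕ :=
  List.rec (motive := fun _ => ℕ → ℕ) (fun _ ↦ 0)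
    (fun t _ ih w ↦ Nat.add (leafAt t (Nat.mod w 16)) (ih (Nat.div w 16))) l

/-- The entry belonging to one row in a nibble. -/
noncomputable def unitLeaf (t : PTree) (m : ℕ) : ℕ :=
  Nat.add (Nat.add (cond (Nat.testBit m 0) (leafAt t 1) 0) (cond (Nat.testBit m 1) (leafAt t 2) 0))
    (Nat.add (cond (Nat.testBit m 2) (leafAt t 4) 0) (cond (Nat.testBit m 3) (leafAt t 8) 0))

/-- A nibble table is made of the packed rows. -/
noncomputable def tabOK (k : ℕ) (R : ℕ → ℕ) (l : List PTree) : Bool :=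
  Nat.beq l.length 14 && allB (fun i ↦
    Nat.ble 224 i ||
      (Nat.beq (Nat.mod (leafAt (l.getD (i / 16) (PTree.leaf 0)) (i % 16)) (NN k))
          (Nat.mod (unitLeaf (l.getD (i / 16) (PTree.leaf 0)) (i % 16)) (NN k)) &&
        (!(Nat.blt (i % 16) 4) ||
          Nat.beq (Nat.mod (leafAt (l.getD (i / 16) (PTree.leaf 0)) (2 ^ (i % 16))) (NN k))
          (Nat.mod (packN k (R (4 * (i / 16) + i % 16))) (NN k))))) 8 0

theorem cast_of_mod {k a b : ℕ} (h : Nat.beq (Nat.mod a (NN k)) (Nat.mod b (NN k)) = true) :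
    (a : ZMod (NN k)) = b :=
  (ZMod.natCast_eq_natCast_iff' a b (NN k)).2 (Nat.eq_of_beq_eq_true h)

theorem bit01_div (w r : ℕ) (j : ℕ) (hj : j < 4) :
    bit01 (w / 16 ^ r % 16) j = bit01 w (4 * r + j) := by
  rw [bit01, bit01, show (16 : ℕ) = 2 ^ 4 from rfl, ← pow_mul, Nat.testBit_mod_two_pow,
    Nat.testBit_div_two_pow]
  simp [hj, add_comm]

theorem sumT_spec {k : ℕ} {R : ℕ → ℕ} {l : List PTree} (hk : 3 ≤ k) (h : tabOK k R l = true) (w : ℕ) :
    (sumT l w : ZMod (NN k)) = ∑ r ∈ Finset.range 56, (bit01 w r : ZMod (NN k)) * packV k (vec (R r)) := by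
  rw [tabOK, Bool.and_eq_true] at h
  obtain ⟨hlen, hall⟩ := h
  have hl : l.length = 14 := Nat.eq_of_beq_eq_true hlen
  have hi : ∀ i < 224, _ := fun i hi ↦ allB_spec_zero hall (show 224 ≤ 2 ^ 8 by norm_num) hi
  -- one nibble
  have hn : ∀ c < 14, ∀ m < 16, (leafAt (l.getD c (PTree.leaf 0)) m : ZMod (NN k)) =
      ∑ j ∈ Finset.range 4, (bit01 m j : ZMod (NN k)) * packV k (vec (R (4 * c + j))) := by
    intro c hc m hm
    have row : ∀ j < 4, (leafAt (l.getD c (PTree.leaf 0)) (2 ^ j) : ZMod (NN k)) =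
        packV k (vec (R (4 * c + j))) := by
      intro j hj
      have := hi (16 * c + j) (by omega)
      simp only [Bool.or_eq_true, Bool.and_eq_true,
        show (16 * c + j) / 16 = c by omega, show (16 * c + j) % 16 = j by omega] at this
      rcases this with h' | ⟨-, h'⟩
      · exact absurd (Nat.le_of_ble_eq_true h') (by omega)
      rcases h' with h' | h'
      · rw [Bool.not_eq_true', ← Bool.not_eq_true] at h'
        exact absurd (Nat.ble_eq_true_of_le hj) h'
      rw [← packN_spec hk, ← cast_of_mod h']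
    have := hi (16 * c + m) (by omega)
    simp only [Bool.or_eq_true, Bool.and_eq_true,
      show (16 * c + m) / 16 = c by omega, show (16 * c + m) % 16 = m by omega] at this
    rcases this with h' | ⟨h', -⟩
    · exact absurd (Nat.le_of_ble_eq_true h') (by omega)
    rw [cast_of_mod h', unitLeaf]
    simp only [Finset.sum_range_succ, Finset.sum_range_zero, zero_add, Nat.add_eq, Nat.cast_add]
    rw [← row 0 (by norm_num), ← row 1 (by norm_num), ← row 2 (by norm_num), ← row 3 (by norm_num)]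
    unfold bit01
    cases m.testBit 0 <;> cases m.testBit 1 <;> cases m.testBit 2 <;> cases m.testBit 3 <;> simp <;> ring
  -- the recursion
  have key : ∀ (n : ℕ) (v : ℕ) (l' : List PTree), l'.length = n → n ≤ 14 →
      (∀ c < n, l'.getD c (PTree.leaf 0) = l.getD (14 - n + c) (PTree.leaf 0)) →
      (sumT l' v : ZMod (NN k)) = ∑ r ∈ Finset.range n, ∑ j ∈ Finset.range 4,
        (bit01 v (4 * r + j) : ZMod (NN k)) * packV k (vec (R (4 * (14 - n + r) + j))) := by
    intro n
    induction n with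
    | zero => intro v l' hl' _ _; rw [List.length_eq_zero_iff.1 hl']; simp [sumT]
    | succ n ih =>
      intro v l' hl' hn14 hget
      obtain ⟨t, l', rfl⟩ := List.exists_cons_of_length_eq_add_one hl'
      show ((Nat.add _ (sumT l' (Nat.div v 16)) : ℕ) : ZMod (NN k)) = _
      rw [Nat.add_eq, Nat.cast_add, ih (Nat.div v 16) l' (by simpa using hl') (by omega)
        (fun c hc ↦ by
          have := hget (c + 1) (by omega)
          rw [List.getD_cons_succ] at this
          rw [this]; congr 1; omega), Finset.sum_range_succ']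
      have h0 := hget 0 (by omega)
      rw [List.getD_cons_zero, Nat.add_zero] at h0
      rw [add_comm]
      congr 1
      · refine Finset.sum_congr rfl fun r _ ↦ Finset.sum_congr rfl fun j _ ↦ ?_
        rw [show 4 * (r + 1) + j = (4 * r + j) + 4 by omega,
          show 14 - (n + 1) + (r + 1) = 14 - n + r by omega]
        congr 2
        unfold bit01
        rw [show Nat.div v 16 = v / 2 ^ 4 from rfl, Nat.testBit_div_two_pow]
      · rw [h0, hn (14 - (n + 1)) (by omega) (Nat.mod v 16) (Nat.mod_lt _ (by norm_num))]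
        refine Finset.sum_congr rfl fun j hj ↦ ?_
        have := bit01_div v 0 j (Finset.mem_range.1 hj)
        rw [pow_zero, Nat.div_one] at this
        rw [show Nat.mod v 16 = v % 16 from rfl, this]
        simp
  rw [key 14 w l hl le_rfl fun c _ ↦ by rw [Nat.sub_self, Nat.zero_add],
    show (56 : ℕ) = 14 * 4 from rfl]
  simp only [Nat.sub_self, Nat.zero_add]
  have grp : ∀ (f : ℕ → ZMod (NN k)) (n : ℕ),
      ∑ r ∈ Finset.range n, ∑ j ∈ Finset.range 4, f (4 * r + j) = ∑ r ∈ Finset.range (n * 4), f r := by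
    intro f n
    induction n with
    | zero => simp
    | succ n ih =>
      rw [Finset.sum_range_succ, ih, show (n + 1) * 4 = n * 4 + 4 by ring, Finset.sum_range_add f (n * 4) 4]
      simp only [mul_comm 4 n]
  exact grp (fun r ↦ (bit01 w r : ZMod (NN k)) * packV k (vec (R r))) 14

end Cfsg.Agent.RuModel
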