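import Cfsg.Agent.RuModel.Vec
import Cfsg.Agent.RuModel.Pack

/-!
# Parity masks of a vector (owner: helper52)
-/

set_option autoImplicit false

open Cfsg.Spor Cfsg.Agent.RuLat
open scoped BigOperators

namespace Cfsg.Agent.RuModel

/-- The mask of the positions with a property. -/
def maskN (f : ℕ → Bool) : ℕ → ℕ
  | 0 => 0
  | n + 1 => (bif f n then 2 ^ n else 0) ||| maskN f n

theorem testBit_maskN (f : ℕ → Bool) : ∀ n r, (maskN f n).testBit r = (decide (r < n) && f r)
  | 0, r => by simp [maskN]
  | n + 1, r => by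
    rw [maskN, Nat.testBit_or, testBit_maskN f n r]
    rcases lt_trichotomy r n with h | h | h
    · cases f n <;> simp [Nat.testBit_two_pow, h, Nat.lt_succ_of_lt h, Nat.ne_of_gt h]
    · subst h; cases f r <;> simp [Nat.testBit_two_pow]
    · cases f n <;> simp [Nat.testBit_two_pow, Nat.ne_of_lt h, show ¬r < n by omega,
        show ¬r < n + 1 by omega]

/-- The odd coordinates. -/
def pMask (x : RuVec) : ℕ := maskN (fun r ↦ decide (co x r % 2 = 1)) 56

/-- The coordinates congruent to two or three modulo four. -/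
def uMask (x : RuVec) : ℕ := maskN (fun r ↦ decide (2 ≤ co x r % 4)) 56

theorem testBit_pMask (x : RuVec) (r : ℕ) :
    (pMask x).testBit r = (decide (r < 56) && decide (co x r % 2 = 1)) := testBit_maskN _ _ _

theorem testBit_uMask (x : RuVec) (r : ℕ) :
    (uMask x).testBit r = (decide (r < 56) && decide (2 ≤ co x r % 4)) := testBit_maskN _ _ _

theorem pMask_zero : pMask 0 = 0 := by
  refine Nat.eq_of_testBit_eq fun r ↦ ?_
  simp [testBit_pMask, co_zero]

theorem pMask_neg (x : RuVec) : pMask (-x) = pMask x := by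
  refine Nat.eq_of_testBit_eq fun r ↦ ?_
  simp [testBit_pMask, co_neg]

theorem pMask_add (x y : RuVec) : pMask (x + y) = pMask x ^^^ pMask y := by
  refine Nat.eq_of_testBit_eq fun r ↦ ?_
  simp only [Nat.testBit_xor, testBit_pMask, co_add]
  have h : decide ((co x r + co y r) % 2 = 1) = ((decide (co x r % 2 = 1)) ^^ (decide (co y r % 2 = 1))) := by
    rcases Int.emod_two_eq_zero_or_one (co x r) with h1 | h1 <;>
      rcases Int.emod_two_eq_zero_or_one (co y r) with h2 | h2 <;> simp [h1, h2, Int.add_emod]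
  rw [h]
  cases decide (r < 56) <;> simp

theorem bz_pMask (x : RuVec) {r : ℕ} (hr : r < 56) : bz (pMask x) r = co x r % 2 := by
  unfold bz
  rw [testBit_pMask]
  rcases Int.emod_two_eq_zero_or_one (co x r) with h | h <;> simp [h, hr]

theorem bz_uMask (x : RuVec) {r : ℕ} (hr : r < 56) :
    co x r % 4 = bz (pMask x) r + 2 * bz (uMask x) r := by
  rw [bz_pMask x hr, bz, testBit_uMask]
  simp only [hr, decide_true, Bool.true_and, decide_eq_true_eq]
  split <;> omega

theorem pc_xor (a b : ℕ) : pc (a ^^^ b) + 2 * pc (a &&& b) = pc a + pc b := by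
  simp only [pc_eq, Finset.mul_sum, ← Finset.sum_add_distrib]
  refine Finset.sum_congr rfl fun r _ ↦ ?_
  simp only [bit01, Nat.testBit_xor, Nat.testBit_and]
  cases a.testBit r <;> cases b.testBit r <;> simp

theorem pc_zero : pc 0 = 0 := by decide +kernel

theorem pc_and_xor (u a b : ℕ) : pc (u &&& (a ^^^ b)) % 2 = (pc (u &&& a) + pc (u &&& b)) % 2 := by
  rw [Nat.and_xor_distrib_left]
  have := pc_xor (u &&& a) (u &&& b)
  omega

/-- The positions of a mask. -/
def bitsOf (w : ℕ) : Finset ℕ := (Finset.range 56).filter fun r ↦ w.testBit r = true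

theorem pc_and_bits (u w : ℕ) : pc (u &&& w) = ∑ r ∈ bitsOf u, bit01 w r := by
  rw [pc_eq, bitsOf, Finset.sum_filter]
  refine Finset.sum_congr rfl fun r _ ↦ ?_
  simp only [bit01, Nat.testBit_and]
  cases u.testBit r <;> simp

theorem card_bitsOf (w : ℕ) : (bitsOf w).card = pc w := by
  rw [pc_eq, bitsOf, Finset.card_filter]
  exact Finset.sum_congr rfl fun r _ ↦ rfl

theorem bits_bound (x : RuVec) : pMask x < 2 ^ 56 ∧ uMask x < 2 ^ 56 := by
  constructor <;> refine Nat.lt_pow_two_of_testBit _ fun r hr ↦ ?_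
  · simp [testBit_pMask, show ¬r < 56 by omega]
  · simp [testBit_uMask, show ¬r < 56 by omega]

/-- **Congruences from one coded vector of weight sixteen.** -/
theorem parity_of_dvd {x : RuVec} {g : ℕ} (hg : sc g = 1) (h : (4 : ℤ) ∣ dot x (vec g)) :
    pc (uMask x &&& wd g) % 2 = (pc (pMask x &&& wd g &&& ng g) + pc (pMask x &&& wd g) / 2) % 2 := by
  have e : dot x (vec g) % 4 =
      ((pc (pMask x &&& wd g) : ℤ) + 2 * pc (uMask x &&& wd g) + 2 * pc (pMask x &&& wd g &&& ng g)) % 4 := by
    rw [dot_co, pc_cast, pc_cast, pc_cast, Finset.mul_sum, Finset.mul_sum, ← Finset.sum_add_distrib,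
      ← Finset.sum_add_distrib, Finset.sum_int_mod]
    conv_rhs => rw [Finset.sum_int_mod]
    refine congrArg (fun s : ℤ ↦ s % 4) (Finset.sum_congr rfl fun r hr ↦ ?_)
    have hr' := Finset.mem_range.1 hr
    rw [co_vec g r hr', cf, hg]
    have hx := bz_uMask x hr'
    revert hx
    simp only [bz, Nat.testBit_and]
    cases (wd g).testBit r <;> cases (ng g).testBit r <;> cases (pMask x).testBit r <;>
      cases (uMask x).testBit r <;> simp <;> omega
  rw [Int.emod_eq_zero_of_dvd h] at e
  omega

end Cfsg.Agent.RuModel
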