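import Cfsg.Agent.RuModel.Points2
import Cfsg.Agent.RuModel.Mask
import Cfsg.Agent.RuModel.CompChkA
import Cfsg.Agent.RuModel.CompChkW0
import Cfsg.Agent.RuModel.CompChkW1

/-!
# The vectors of norm sixteen are the 16240 listed ones (owner: helper52)
-/

set_option autoImplicit false
set_option maxRecDepth 4000

open Cfsg.Spor Cfsg.Agent.RuLat Cfsg.Agent.CosetCert
open scoped BigOperators

namespace Cfsg.Agent.RuModel

open Dat (WC WT)

theorem memT_spec : ∀ (t : WT) {p : ℕ}, memT t p = true → treeAll t = true →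
    ∃ c : WC, certOK p c = true
  | .nil, _, h, _ => Bool.noConfusion h
  | .node w c l r, p, h, ha => by
    change (cond (Nat.beq w p) true (cond (Nat.blt p w) (memT l p) (memT r p))) = true at h
    change (certOK w c && (treeAll l && treeAll r)) = true at ha
    simp only [Bool.and_eq_true] at ha
    cases h1 : Nat.beq w p with
    | true => exact ⟨c, Nat.eq_of_beq_eq_true h1 ▸ ha.1⟩
    | false =>
      rw [h1, cond_false] at h
      cases h2 : Nat.blt p w with
      | true => rw [h2] at h; exact memT_spec l h ha.2.1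
      | false => rw [h2] at h; exact memT_spec r h ha.2.2

theorem memW_spec {p : ℕ} (h : memW p = true) : ∃ c : WC, certOK p c = true := by
  refine memT_spec _ h ?_
  generalize slot Dat.wordsCut p = i
  match i with
  | 0 => exact wordsT0_ok
  | 1 => exact wordsT1_ok
  | 2 => exact wordsT2_ok
  | 3 => exact wordsT3_ok
  | 4 => exact wordsT4_ok
  | 5 => exact wordsT5_ok
  | 6 => exact wordsT6_ok
  | 7 => exact wordsT7_ok
  | n + 8 => rfl

theorem selX_zero : ∀ l, selX l 0 = 0
  | [] => rfl
  | g :: l => by
    show cond (Nat.testBit 0 g.1) _ (selX l 0) = 0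
    rw [Nat.zero_testBit, cond_false, selX_zero l]

theorem selX_xor : ∀ (l : List (ℕ × ℕ)) (a b : ℕ), selX l (a ^^^ b) = selX l a ^^^ selX l b
  | [], _, _ => (Nat.xor_self 0).symm
  | g :: l, a, b => by
    show cond (Nat.testBit (a ^^^ b) g.1) (g.2 ^^^ selX l (a ^^^ b)) (selX l (a ^^^ b)) =
      cond (Nat.testBit a g.1) (g.2 ^^^ selX l a) (selX l a) ^^^
        cond (Nat.testBit b g.1) (g.2 ^^^ selX l b) (selX l b)
    rw [selX_xor l a b, Nat.testBit_xor]
    refine Nat.eq_of_testBit_eq fun r ↦ ?_
    cases a.testBit g.1 <;> cases b.testBit g.1 <;> simp [Nat.testBit_xor] <;>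
      cases g.2.testBit r <;> cases (selX l a).testBit r <;> cases (selX l b).testBit r <;> rfl

theorem dfs_spec : ∀ (l : List (ℕ × ℕ)) (b acc p : ℕ), dfs l b acc = true →
    (l.map Prod.fst).countP (fun i ↦ p.testBit i) ≤ b →
    16 < pc (acc ^^^ selX l p) ∨ memW (acc ^^^ selX l p) = true
  | [], b, acc, p, h, _ => by
    change (Nat.blt 16 (pcN acc) || memW acc) = true at h
    rw [show selX [] p = 0 from rfl, Nat.xor_zero]
    rw [Bool.or_eq_true] at h
    exact h.imp (fun h ↦ Nat.le_of_ble_eq_true h) id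
  | g :: l, b, acc, p, h, hc => by
    change (dfs l b acc && (Nat.beq b 0 || dfs l (b - 1) (acc ^^^ g.2))) = true at h
    show _ ∨ memW (acc ^^^ cond (Nat.testBit p g.1) (g.2 ^^^ selX l p) (selX l p)) = true
    rw [show selX (g :: l) p = cond (Nat.testBit p g.1) (g.2 ^^^ selX l p) (selX l p) from rfl]
    simp only [Bool.and_eq_true, Bool.or_eq_true] at h
    rw [List.map_cons, List.countP_cons] at hc
    cases hg : p.testBit g.1 with
    | false => rw [hg] at hc; exact dfs_spec l b acc p h.1 (by simpa using hc)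
    | true =>
      rw [hg] at hc
      simp only [if_true] at hc
      rw [cond_true, ← Nat.xor_assoc]
      rcases h.2 with h2 | h2
      · exact absurd (Nat.eq_of_beq_eq_true h2) (by omega)
      · exact dfs_spec l (b - 1) _ p h2 (by omega)

theorem pMask_code {z : ℕ} : pMask (vec z) = pCode z := by
  refine Nat.eq_of_testBit_eq fun r ↦ ?_
  rw [testBit_pMask]
  rcases lt_or_ge r 56 with hr | hr
  · rw [co_vec z r hr, pCode, pcN_eq, wdN_eq, cf, sc]
    cases h : Nat.beq (pc (wd z)) 1 with
    | true =>
      rw [if_pos (Nat.eq_of_beq_eq_true h)]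
      cases (wd z).testBit r <;> cases (ng z).testBit r <;> simp
    | false =>
      rw [if_neg (show ¬pc (wd z) = 1 from fun e ↦ by rw [e] at h; exact Bool.noConfusion h)]
      cases hw : (wd z).testBit r <;> cases (ng z).testBit r <;> simp [hr, hw]
  · have e : (pCode z).testBit r = false := by
      rw [pCode]
      cases Nat.beq (pcN (wdN z)) 1
      · exact Nat.testBit_eq_false_of_lt
          (lt_of_lt_of_le (wd_lt z) (Nat.pow_le_pow_right (by norm_num) hr))
      · exact Nat.zero_testBit r
    simp [e, show ¬r < 56 by omega]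

theorem systematic {l : List (ℕ × ℕ)}
    (hl : ∀ t : Fin 56, Nat.beq (selX l (pCode (bas t.val))) (pCode (bas t.val)) = true) {x : RuVec}
    (hx : x ∈ ruLattice) : selX l (pMask x) = pMask x := by
  refine lattice_induct (P := fun x ↦ selX l (pMask x) = pMask x) (fun t ht ↦ ?_) ?_ ?_ ?_ hx
  · rw [pMask_code]; exact Nat.eq_of_beq_eq_true (hl ⟨t, ht⟩)
  · rw [pMask_zero, selX_zero]
  · intro a b ha hb; rw [pMask_add, selX_xor, ha, hb]
  · intro a ha; rw [pMask_neg, ha]

theorem pc_countP (p : ℕ) : (List.range 56).countP (fun i ↦ p.testBit i) = pc p := by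
  rw [← card_bitsOf, bitsOf, Finset.card_def, Finset.filter_val, ← Multiset.countP_eq_card_filter,
    Finset.range_val, Multiset.range, Multiset.coe_countP]
  simp

/-- The parity support of a short vector is listed. -/
theorem support_cert {x : RuVec} (hx : x ∈ ruLattice) (hp : pc (pMask x) ≤ 16) :
    ∃ c : WC, certOK (pMask x) c = true := by
  set p := pMask x with hpdef
  have hc : (Dat.info0.map Prod.fst).countP (fun i ↦ p.testBit i) +
      (Dat.info1.map Prod.fst).countP (fun i ↦ p.testBit i) +
      (Dat.info2.map Prod.fst).countP (fun i ↦ p.testBit i) ≤ pc p + 1 := by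
    rw [← List.countP_append, ← List.countP_append, ← List.map_append, ← List.map_append,
      List.Perm.countP_eq _ info_perm, List.countP_cons, pc_countP]
    split <;> omega
  have key : ∀ l, dfs l 5 0 = true → selX l p = p →
      (l.map Prod.fst).countP (fun i ↦ p.testBit i) ≤ 5 → ∃ c : WC, certOK p c = true := by
    intro l hd hs hn
    rcases dfs_spec l 5 0 p hd hn with h | h
    · rw [Nat.zero_xor, hs] at h; omega
    · rw [Nat.zero_xor, hs] at h; exact memW_spec h
  by_cases h0 : (Dat.info0.map Prod.fst).countP (fun i ↦ p.testBit i) ≤ 5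
  · exact key _ dfs0_ok (systematic info0_basis hx) h0
  by_cases h1 : (Dat.info1.map Prod.fst).countP (fun i ↦ p.testBit i) ≤ 5
  · exact key _ dfs1_ok (systematic info1_basis hx) h1
  exact key _ dfs2_ok (systematic info2_basis hx) (by omega)

theorem gOK_spec {g : ℕ} (h : gOK g = true) : g < 16240 ∧ sc (codeK g) = 1 := by
  simp only [gOK, Bool.and_eq_true] at h
  refine ⟨Nat.le_of_ble_eq_true h.1, ?_⟩
  rw [sc, if_neg]
  have : pc (wd (codeK g)) = 16 := Nat.eq_of_beq_eq_true h.2
  omega

theorem parity_gen {x : RuVec} (hx : x ∈ ruLattice) {g : ℕ} (hg : gOK g = true) :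
    pc (uMask x &&& gW g) % 2 = rhsN (pMask x) g :=
  parity_of_dvd (gOK_spec hg).2 (four_dvd hx (ptV_mem (gOK_spec hg).1))

theorem lvs_spec {x : RuVec} (hx : x ∈ ruLattice) (hu : uMask x &&& pMask x = uMask x) :
    ∀ (l : List ℕ) (dec : ℕ), stepsOK (pMask x) l dec = true →
    (uMask x &&& pMask x) ∈ lvs (pMask x) l (uMask x &&& dec)
  | [], dec, h => by
    change Nat.beq dec (pMask x) = true at h
    rw [Nat.eq_of_beq_eq_true h]
    exact List.mem_singleton_self _
  | s :: l, dec, h => by
    change (Nat.beq (Nat.land (pMask x) (Nat.shiftLeft 1 (s % 64))) (Nat.shiftLeft 1 (s % 64)) &&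
      (Nat.beq (Nat.land dec (Nat.shiftLeft 1 (s % 64))) 0 &&
        ((Nat.blt s 64 || (gOK (s / 64 - 1) && (Nat.beq (Nat.land (Nat.land (pMask x) (gW (s / 64 - 1)))
          (Nat.shiftLeft 1 (s % 64))) (Nat.shiftLeft 1 (s % 64)) &&
          Nat.beq (Nat.lor (Nat.land (pMask x) (gW (s / 64 - 1))) (Nat.lor dec (Nat.shiftLeft 1 (s % 64))))
            (Nat.lor dec (Nat.shiftLeft 1 (s % 64)))))) &&
            stepsOK (pMask x) l (Nat.lor dec (Nat.shiftLeft 1 (s % 64)))))) = true at h
    show _ ∈ cond (Nat.blt s 64)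
      (lvs (pMask x) l (uMask x &&& dec) ++
        lvs (pMask x) l ((uMask x &&& dec) ||| Nat.shiftLeft 1 (s % 64)))
      (cond (Nat.beq (pc ((uMask x &&& dec) &&& gW (s / 64 - 1)) % 2) (rhsN (pMask x) (s / 64 - 1)))
        (lvs (pMask x) l (uMask x &&& dec))
        (lvs (pMask x) l ((uMask x &&& dec) ||| Nat.shiftLeft 1 (s % 64))))
    have hX : Nat.shiftLeft 1 (s % 64) = 2 ^ (s % 64) := by
      show 1 <<< (s % 64) = _
      rw [Nat.shiftLeft_eq, one_mul]
    rw [hX] at h ⊢
    simp only [Bool.and_eq_true] at h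
    obtain ⟨hpx, hdx, hg, hrest⟩ := h
    have hq : (pMask x).testBit (s % 64) = true := by
      have := congrArg (Nat.testBit · (s % 64)) (show pMask x &&& 2 ^ (s % 64) = 2 ^ (s % 64) from
        Nat.eq_of_beq_eq_true hpx)
      simpa using this
    have hq56 : s % 64 < 56 := by
      have := testBit_pMask x (s % 64)
      rw [hq] at this
      by_contra hcon
      simp [hcon] at this
    have ih := lvs_spec hx hu l _ hrest
    rw [show Nat.lor dec (2 ^ (s % 64)) = dec ||| 2 ^ (s % 64) from rfl] at ih
    have hdq : dec.testBit (s % 64) = false := by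
      have := congrArg (Nat.testBit · (s % 64)) (show dec &&& 2 ^ (s % 64) = 0 from Nat.eq_of_beq_eq_true hdx)
      simpa using this
    have hcase : ∀ b, (uMask x).testBit (s % 64) = b → uMask x &&& (dec ||| 2 ^ (s % 64)) =
        bif b then (uMask x &&& dec) ||| 2 ^ (s % 64) else uMask x &&& dec := by
      intro b hb
      refine Nat.eq_of_testBit_eq fun r ↦ ?_
      by_cases hr : s % 64 = r
      · subst hr; cases b <;> simp [hb, hdq]
      · cases b <;> simp [Nat.testBit_two_pow, hr]
    cases hs : Nat.blt s 64 with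
    | true =>
      rw [cond_true, List.mem_append]
      rw [hcase _ rfl] at ih
      revert ih
      cases (uMask x).testBit (s % 64)
      · exact Or.inl
      · exact Or.inr
    | false =>
      rw [hs] at hg
      simp only [Bool.false_or, Bool.and_eq_true] at hg
      obtain ⟨hgo, hmq, hsub⟩ := hg
      set w := gW (s / 64 - 1) with hwdef
      have hwq : w.testBit (s % 64) = true := by
        have := congrArg (Nat.testBit · (s % 64))
          (show pMask x &&& w &&& 2 ^ (s % 64) = 2 ^ (s % 64) from Nat.eq_of_beq_eq_true hmq)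
        simp [hq] at this
        exact this
      have hpar := parity_gen hx hgo
      rw [← hwdef] at hpar
      -- the positions of the functional outside the decided ones
      have hsplit : pc (uMask x &&& w) % 2 =
          (pc (uMask x &&& dec &&& w) + (if (uMask x).testBit (s % 64) then 1 else 0)) % 2 := by
        rw [pc_eq, pc_eq]
        have : (if (uMask x).testBit (s % 64) then 1 else 0) =
            ∑ r ∈ Finset.range 56, (if r = s % 64 then bit01 (uMask x) r else 0) := by
          rw [Finset.sum_ite_eq', if_pos (Finset.mem_range.2 hq56)]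
          rfl
        rw [this, ← Finset.sum_add_distrib]
        refine congrArg (· % 2) (Finset.sum_congr rfl fun r hr ↦ ?_)
        have hsub' := congrArg (Nat.testBit · r) (show (pMask x &&& w) ||| (dec ||| 2 ^ (s % 64)) =
          dec ||| 2 ^ (s % 64) from Nat.eq_of_beq_eq_true hsub)
        have hup := congrArg (Nat.testBit · r) hu
        simp only [Nat.testBit_or, Nat.testBit_and, Nat.testBit_two_pow] at hsub' hup
        simp only [bit01, Nat.testBit_and]
        by_cases he : r = s % 64
        · subst he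
          rw [if_pos rfl, hwq, hdq]
          cases (uMask x).testBit (s % 64) <;> simp
        · rw [if_neg he]
          have he' : decide (s % 64 = r) = false := decide_eq_false (fun e ↦ he e.symm)
          rw [he'] at hsub'
          revert hsub' hup
          cases (uMask x).testBit r <;> cases w.testBit r <;> cases dec.testBit r <;>
            cases (pMask x).testBit r <;> simp
      rw [cond_false]
      rw [hpar] at hsplit
      rw [hcase _ rfl] at ih
      revert ih hsplit
      cases (uMask x).testBit (s % 64)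
      · intro ih hsplit
        rw [show Nat.beq (pc (uMask x &&& dec &&& w) % 2) (rhsN (pMask x) (s / 64 - 1)) = true from by
          rw [hsplit]; simp [Nat.beq_refl]]
        exact ih
      · intro ih hsplit
        rw [show Nat.beq (pc (uMask x &&& dec &&& w) % 2) (rhsN (pMask x) (s / 64 - 1)) = false from by
          rcases h' : Nat.beq (pc (uMask x &&& dec &&& w) % 2) (rhsN (pMask x) (s / 64 - 1))
          · rfl
          · have := Nat.eq_of_beq_eq_true h'
            simp only [if_true] at hsplit
            omega]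
        exact ih

theorem hW_spec {x : RuVec} (hx : x ∈ ruLattice) : ∀ gs : List ℕ, gs.all gOK = true →
    pc (uMask x &&& hW gs) % 2 = hR (pMask x) gs
  | [], _ => by
    show pc (uMask x &&& 0) % 2 = 0
    rw [Nat.and_zero, pc_zero]
  | g :: gs, h => by
    simp only [List.all_cons, Bool.and_eq_true] at h
    show pc (uMask x &&& (gW g ^^^ hW gs)) % 2 = (rhsN (pMask x) g + hR (pMask x) gs) % 2
    rw [pc_and_xor, Nat.add_mod, hW_spec hx gs h.2, parity_gen hx h.1]

theorem lvEq_spec (p : ℕ) : ∀ (ns ks : List ℕ), lvEq p ns ks = true → ∀ n ∈ ns,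
    ∃ k, k < 16240 ∧ codeK k = p + 72057594037927936 * n
  | [], _, _, n, hn => absurd hn (List.not_mem_nil)
  | m :: ns, [], h, _, _ => Bool.noConfusion h
  | m :: ns, k :: ks, h, n, hn => by
    change (Nat.blt k 16240 && (Nat.beq (codeK k) (p + 72057594037927936 * m) && lvEq p ns ks)) = true at h
    simp only [Bool.and_eq_true] at h
    rcases List.mem_cons.1 hn with rfl | hn
    · exact ⟨k, Nat.le_of_ble_eq_true h.1, Nat.eq_of_beq_eq_true h.2.1⟩
    · exact lvEq_spec p ns ks h.2.2 n hn

theorem sum_bz (w : ℕ) : ∑ r ∈ Finset.range 56, bz w r = pc w := (pc_cast w).symm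

theorem sq_ge {x : RuVec} {r : ℕ} (hr : r < 56) :
    bz (pMask x) r + 4 * (bz (uMask x) r * (1 - bz (pMask x) r)) ≤ co x r * co x r := by
  have h := bz_uMask x hr
  revert h
  unfold bz
  rcases (show co x r ≤ -2 ∨ co x r = -1 ∨ co x r = 0 ∨ co x r = 1 ∨ 2 ≤ co x r by omega)
    with hc | hc | hc | hc | hc
  all_goals cases (pMask x).testBit r <;> cases (uMask x).testBit r <;> simp <;> intro h <;>
    first
      | nlinarith
      | (rw [hc] at h; norm_num at h)

theorem norm_split {x : RuVec} (hx : dot x x = 16) :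
    (pc (pMask x) : ℤ) + 4 * (pc (uMask x &&& (uMask x ^^^ (uMask x &&& pMask x))) : ℤ) ≤ 16 := by
  rw [← hx, dot_co, pc_cast, pc_cast, Finset.mul_sum, ← Finset.sum_add_distrib]
  refine Finset.sum_le_sum fun r hr ↦ le_of_eq_of_le ?_ (sq_ge (Finset.mem_range.1 hr))
  unfold bz
  simp only [Nat.testBit_and, Nat.testBit_xor]
  cases (pMask x).testBit r <;> cases (uMask x).testBit r <;> simp

/-- The signs outside the parity support. -/
def eMask (x : RuVec) : ℕ := uMask x &&& (uMask x ^^^ (uMask x &&& pMask x))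

theorem testBit_eMask (x : RuVec) (r : ℕ) :
    (eMask x).testBit r = ((uMask x).testBit r && !(pMask x).testBit r) := by
  simp only [eMask, Nat.testBit_and, Nat.testBit_xor]
  cases (uMask x).testBit r <;> cases (pMask x).testBit r <;> rfl

theorem eMask_lt (x : RuVec) : eMask x < 2 ^ 56 :=
  lt_of_le_of_lt Nat.and_le_left (bits_bound x).2

/-- **Sixteen odd coordinates.** -/
theorem sixteen {x : RuVec} (hx : x ∈ ruLattice) (h16 : dot x x = 16) (hp : pc (pMask x) = 16)
    {steps ks : List ℕ} (hs : stepsOK (pMask x) steps 0 = true)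
    (hl : lvEq (pMask x) (lvs (pMask x) steps 0) ks = true) : ∃ k, k < 16240 ∧ x = ptV k := by
  have he : eMask x = 0 := by
    have h := norm_split h16
    rw [hp] at h
    have h0 : pc (eMask x) = 0 := by unfold eMask; omega
    refine Nat.eq_of_testBit_eq fun r ↦ ?_
    rw [Nat.zero_testBit]
    rcases lt_or_ge r 56 with hr | hr
    · rw [pc_eq, Finset.sum_eq_zero_iff] at h0
      have := h0 r (Finset.mem_range.2 hr)
      unfold bit01 at this
      revert this
      cases (eMask x).testBit r <;> simp
    · exact Nat.testBit_eq_false_of_lt (lt_of_lt_of_le (eMask_lt x) (Nat.pow_le_pow_right (by norm_num) hr))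
  have hu : uMask x &&& pMask x = uMask x := by
    refine Nat.eq_of_testBit_eq fun r ↦ ?_
    have := congrArg (Nat.testBit · r) he
    simp only [testBit_eMask, Nat.zero_testBit] at this
    rw [Nat.testBit_and]
    revert this
    cases (uMask x).testBit r <;> cases (pMask x).testBit r <;> simp
  have hmem := lvs_spec hx hu steps 0 hs
  rw [Nat.and_zero, hu] at hmem
  obtain ⟨k, hk, hc⟩ := lvEq_spec _ _ _ hl _ hmem
  refine ⟨k, hk, ext_co fun r hr ↦ ?_⟩
  rw [ptV, hc, co_vec _ _ hr]
  have hwd : wd (pMask x + 72057594037927936 * uMask x) = pMask x := by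
    rw [wd, Nat.add_mul_mod_self_left]; exact Nat.mod_eq_of_lt (bits_bound x).1
  have hng : ng (pMask x + 72057594037927936 * uMask x) = uMask x := by
    rw [ng, Nat.add_mul_div_left _ _ (by norm_num),
      Nat.div_eq_of_lt (show pMask x < 72057594037927936 from (bits_bound x).1), Nat.zero_add]
  rw [cf, hwd, hng, sc, hwd, hp, if_neg (by norm_num : ¬(16 : ℕ) = 1)]
  have hsq : co x r * co x r = bz (pMask x) r := by
    refine le_antisymm ?_ ?_
    · by_contra hlt
      have : (pc (pMask x) : ℤ) < dot x x := by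
        rw [dot_co, pc_cast]
        refine Finset.sum_lt_sum (fun i hi ↦ ?_) ⟨r, Finset.mem_range.2 hr, not_le.1 hlt⟩
        have := sq_ge (x := x) (Finset.mem_range.1 hi)
        unfold bz at this ⊢
        revert this
        cases (pMask x).testBit i <;> cases (uMask x).testBit i <;> simp <;> intros <;> nlinarith
      rw [hp, h16] at this
      norm_num at this
    · have := sq_ge (x := x) hr
      unfold bz at this ⊢
      revert this
      cases (pMask x).testBit r <;> cases (uMask x).testBit r <;> simp <;> intros <;> nlinarith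
  have h4 := bz_uMask x hr
  revert hsq h4
  unfold bz
  cases (pMask x).testBit r <;> cases (uMask x).testBit r <;> simp
  all_goals intro hsq h4
  all_goals first
    | exact hsq
    | (rcases Int.eq_one_or_neg_one_of_mul_eq_one hsq with e | e <;> omega)

theorem exists_pair {e : ℕ} (he : e < 2 ^ 56) (hc : pc e ≤ 2) :
    e = 0 ∨ ∃ a b, a ≤ b ∧ b < 56 ∧ e = 2 ^ a ||| 2 ^ b := by
  rw [← card_bitsOf] at hc
  rcases Nat.lt_or_ge (bitsOf e).card 1 with h | h
  · refine Or.inl (Nat.eq_of_testBit_eq fun r ↦ ?_)
    rw [Nat.zero_testBit]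
    by_contra hr
    rw [Bool.not_eq_false] at hr
    have hr56 : r < 56 := by
      by_contra hh
      rw [Nat.testBit_eq_false_of_lt (lt_of_lt_of_le he (Nat.pow_le_pow_right (by norm_num) (not_lt.1 hh)))]
        at hr
      exact Bool.noConfusion hr
    have := Finset.card_pos.2 ⟨r, (Finset.mem_filter.2 ⟨Finset.mem_range.2 hr56, hr⟩ : r ∈ bitsOf e)⟩
    unfold bitsOf at h
    omega
  · refine Or.inr ?_
    obtain ⟨a, ha⟩ := Finset.card_pos.1 h
    have : ∃ b, bitsOf e ⊆ {a, b} ∧ b ∈ bitsOf e := by
      rcases Nat.lt_or_ge (bitsOf e).card 2 with h1 | h1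
      · exact ⟨a, fun r hr ↦ by
          rw [Finset.card_le_one.1 (by omega) r hr a ha]; simp, ha⟩
      · obtain ⟨s, t, -, e'⟩ := Finset.card_eq_two.1 (le_antisymm hc h1)
        rw [e'] at ha ⊢
        rcases Finset.mem_insert.1 ha with rfl | ha'
        · exact ⟨t, fun r hr ↦ hr, by simp⟩
        · rw [Finset.mem_singleton.1 ha']
          exact ⟨s, fun r hr ↦ by simpa [or_comm] using hr, by simp⟩
    obtain ⟨b, hsub, hb⟩ := this
    have hmem : ∀ r, e.testBit r = true ↔ r = a ∨ r = b := by
      intro r
      constructor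
      · intro hr
        have hr56 : r < 56 := by
          by_contra hh
          rw [Nat.testBit_eq_false_of_lt
            (lt_of_lt_of_le he (Nat.pow_le_pow_right (by norm_num) (not_lt.1 hh)))] at hr
          exact Bool.noConfusion hr
        simpa using hsub (Finset.mem_filter.2 ⟨Finset.mem_range.2 hr56, hr⟩)
      · rintro (rfl | rfl)
        · exact (Finset.mem_filter.1 ha).2
        · exact (Finset.mem_filter.1 hb).2
    have heq : ∀ u v, (∀ r, e.testBit r = true ↔ r = u ∨ r = v) → e = 2 ^ u ||| 2 ^ v := fun u v hh ↦ by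
      refine Nat.eq_of_testBit_eq fun r ↦ Bool.eq_iff_iff.2 ?_
      rw [hh r, Nat.testBit_or, Nat.testBit_two_pow, Nat.testBit_two_pow, Bool.or_eq_true,
        decide_eq_true_iff, decide_eq_true_iff]
      exact or_congr ⟨Eq.symm, Eq.symm⟩ ⟨Eq.symm, Eq.symm⟩
    rcases le_total a b with hab | hab
    · exact ⟨a, b, hab, Finset.mem_range.1 (Finset.mem_filter.1 hb).1, heq a b hmem⟩
    · exact ⟨b, a, hab, Finset.mem_range.1 (Finset.mem_filter.1 ha).1, heq b a fun r ↦ by rw [hmem r, or_comm]⟩

/-- **Eight odd coordinates do not occur.** -/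
theorem eight {x : RuVec} (hx : x ∈ ruLattice) (h16 : dot x x = 16) (hp : pc (pMask x) = 8)
    {fs : List (List ℕ)}
    (hf : fs.all (fun gs ↦ Nat.beq (Nat.land (hW gs) (pMask x)) 0 && gs.all gOK) = true)
    (h0 : refuted (pMask x) fs 0 = true)
    (hall : allB (fun a ↦ Nat.ble 56 a ||
      allB (fun b ↦ Nat.ble 56 b || (Nat.blt b a || pairE (pMask x) fs a b)) 6 0) 6 0 = true) : False := by
  have hnr : refuted (pMask x) fs (eMask x) = false := by
    rw [← Bool.not_eq_true, refuted, List.any_eq_true]
    rintro ⟨gs, hgs, hne⟩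
    have h2 := List.all_eq_true.1 hf gs hgs
    simp only [Bool.and_eq_true] at h2
    have he : eMask x &&& hW gs = uMask x &&& hW gs := by
      refine Nat.eq_of_testBit_eq fun r ↦ ?_
      have := congrArg (Nat.testBit · r) (show hW gs &&& pMask x = 0 from Nat.eq_of_beq_eq_true h2.1)
      simp only [Nat.testBit_and, Nat.zero_testBit] at this
      rw [Nat.testBit_and, Nat.testBit_and, testBit_eMask]
      revert this
      cases (uMask x).testBit r <;> cases (pMask x).testBit r <;> cases (hW gs).testBit r <;> simp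
    rw [show Nat.land (eMask x) (hW gs) = eMask x &&& hW gs from rfl, he] at hne
    change (!Nat.beq (pc (uMask x &&& hW gs) % 2) (hR (pMask x) gs)) = true at hne
    rw [hW_spec hx gs h2.2, show Nat.beq (hR (pMask x) gs) (hR (pMask x) gs) = true from Nat.beq_refl _] at hne
    exact Bool.noConfusion hne
  have hcard : pc (eMask x) ≤ 2 := by
    have h := norm_split h16
    rw [hp] at h
    unfold eMask
    omega
  rcases exists_pair (eMask_lt x) hcard with he | ⟨a, b, hab, hb, he⟩
  · rw [he, h0] at hnr; exact Bool.noConfusion hnr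
  · have h1 := allB_spec_zero hall (show 56 ≤ 2 ^ 6 by norm_num) (show a < 56 by omega)
    rw [Bool.or_eq_true] at h1
    rcases h1 with h1 | h1
    · exact absurd (Nat.le_of_ble_eq_true h1) (by omega)
    have h2 := allB_spec_zero h1 (show 56 ≤ 2 ^ 6 by norm_num) hb
    simp only [Bool.or_eq_true, pairE] at h2
    have hor : Nat.lor (Nat.shiftLeft 1 a) (Nat.shiftLeft 1 b) = eMask x := by
      rw [he]
      show (1 <<< a) ||| (1 <<< b) = _
      rw [Nat.shiftLeft_eq, Nat.shiftLeft_eq, one_mul, one_mul]
    rw [hor] at h2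
    have hdis : Nat.land (eMask x) (pMask x) = 0 := by
      refine Nat.eq_of_testBit_eq fun r ↦ ?_
      show (eMask x &&& pMask x).testBit r = _
      rw [Nat.testBit_and, testBit_eMask, Nat.zero_testBit]
      cases (uMask x).testBit r <;> cases (pMask x).testBit r <;> rfl
    rcases h2 with h2 | h2 | h2 | h2
    · exact absurd (Nat.le_of_ble_eq_true h2) (by omega)
    · exact absurd (Nat.le_of_ble_eq_true h2) (by omega)
    · rw [hdis, show Nat.beq 0 0 = true from rfl] at h2; exact Bool.noConfusion h2
    · rw [hnr] at h2; exact Bool.noConfusion h2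

theorem colN_spec : ∀ (l : List ℕ) (r j : ℕ),
    (colN r l).testBit j = (decide (j < l.length) && (gW (l.getD j 0)).testBit r)
  | [], r, j => by simp [colN]
  | g :: l, r, j => by
    show (cond (Nat.testBit (gW g) r) 1 0 + 2 * colN r l).testBit j = _
    rcases j with _ | j
    · rw [Nat.testBit_zero, List.getD_cons_zero]
      cases (gW g).testBit r <;> simp [Nat.add_mod, Nat.mul_mod]
    · rw [Nat.testBit_succ, show (cond (Nat.testBit (gW g) r) 1 0 + 2 * colN r l) / 2 = colN r l by
        cases (gW g).testBit r <;> simp <;> omega, colN_spec l r j, List.getD_cons_succ]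
      simp

theorem pairKey_mk {a b : ℕ} (hb : b < 56) :
    pairKey (64 * a + b) = colN a Dat.colF ^^^ colN b Dat.colF := by
  show colN ((64 * a + b) / 64) Dat.colF ^^^ colN ((64 * a + b) % 64) Dat.colF = _
  rw [show (64 * a + b) / 64 = a by omega, show (64 * a + b) % 64 = b by omega]

theorem pairKey_inj {a b c d : ℕ} (hab : a < b) (hb : b < 56) (hcd : c < d) (hd : d < 56)
    (h : pairKey (64 * a + b) = pairKey (64 * c + d)) : a = c ∧ b = d := by
  have hpos : ∀ u v, u < v → v < 56 →
      Dat.pairP.get 16 (64 * u + v) < 1540 ∧ Dat.pairS.get 16 (Dat.pairP.get 16 (64 * u + v)) = 64 * u + v := by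
    intro u v huv hv
    have := allB_spec_zero pairP_ok (show 3584 ≤ 2 ^ 12 by norm_num) (show 64 * u + v < 3584 by omega)
    simp only [Bool.or_eq_true, Bool.and_eq_true,
      show Nat.div (64 * u + v) 64 = u from (show (64 * u + v) / 64 = u by omega),
      show Nat.mod (64 * u + v) 64 = v from (show (64 * u + v) % 64 = v by omega)] at this
    rcases this with h | h | h | ⟨h1, h2⟩
    · exact absurd (Nat.le_of_ble_eq_true h) (by omega)
    · exact absurd (Nat.le_of_ble_eq_true h) (by omega)
    · exact absurd (Nat.le_of_ble_eq_true h) (by omega)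
    · exact ⟨Nat.le_of_ble_eq_true h1, Nat.eq_of_beq_eq_true h2⟩
  have hstep : ∀ j, j < 1539 → pairKey (Dat.pairS.get 16 j) < pairKey (Dat.pairS.get 16 (j + 1)) := by
    intro j hj
    have := allB_spec_zero pairS_ok (show 1539 ≤ 2 ^ 11 by norm_num) hj
    simp only [Bool.or_eq_true] at this
    rcases this with h | h
    · exact absurd (Nat.le_of_ble_eq_true h) (by omega)
    · exact Nat.le_of_ble_eq_true h
  have hm : ∀ e j, j + e + 1 < 1540 →
      pairKey (Dat.pairS.get 16 j) < pairKey (Dat.pairS.get 16 (j + e + 1)) := by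
    intro e
    induction e with
    | zero => intro j hj; exact hstep j (by omega)
    | succ e ih => intro j hj; exact lt_trans (ih j (by omega)) (hstep (j + e + 1) (by omega))
  obtain ⟨l1, e1⟩ := hpos a b hab hb
  obtain ⟨l2, e2⟩ := hpos c d hcd hd
  rcases lt_trichotomy (Dat.pairP.get 16 (64 * a + b)) (Dat.pairP.get 16 (64 * c + d)) with hh | hh | hh
  · have := hm (Dat.pairP.get 16 (64 * c + d) - Dat.pairP.get 16 (64 * a + b) - 1) _
      (show Dat.pairP.get 16 (64 * a + b) + _ + 1 < 1540 by omega)
    rw [show Dat.pairP.get 16 (64 * a + b) + (Dat.pairP.get 16 (64 * c + d) - Dat.pairP.get 16 (64 * a + b) - 1)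
      + 1 = Dat.pairP.get 16 (64 * c + d) by omega, e1, e2, h] at this
    exact absurd this (lt_irrefl _)
  · have : 64 * a + b = 64 * c + d := by rw [← e1, hh, e2]
    omega
  · have := hm (Dat.pairP.get 16 (64 * a + b) - Dat.pairP.get 16 (64 * c + d) - 1) _
      (show Dat.pairP.get 16 (64 * c + d) + _ + 1 < 1540 by omega)
    rw [show Dat.pairP.get 16 (64 * c + d) + (Dat.pairP.get 16 (64 * a + b) - Dat.pairP.get 16 (64 * c + d) - 1)
      + 1 = Dat.pairP.get 16 (64 * a + b) by omega, e1, e2, h] at this
    exact absurd this (lt_irrefl _)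

/-- **No odd coordinate: an axis vector.** -/
theorem axis {x : RuVec} (hx : x ∈ ruLattice) (h16 : dot x x = 16) (hp : pMask x = 0) :
    ∃ k, k < 16240 ∧ x = ptV k := by
  have hev : ∀ r < 56, co x r % 2 = 0 := fun r hr ↦ by
    have := congrArg (Nat.testBit · r) hp
    simp only [testBit_pMask, hr, decide_true, Bool.true_and, Nat.zero_testBit, decide_eq_false_iff_not]
      at this
    omega
  have hsq : ∀ r < 56, ∃ a : ℤ, co x r * co x r = 4 * bz (uMask x) r + 16 * a ∧ 0 ≤ a := by
    intro r hr
    have h := bz_uMask x hr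
    obtain ⟨b, hb⟩ : ∃ b, co x r = 2 * b := ⟨co x r / 2, by have := hev r hr; omega⟩
    rw [hp] at h
    unfold bz at h ⊢
    rw [Nat.zero_testBit] at h
    cases hu : (uMask x).testBit r
    · rw [hu] at h
      obtain ⟨c, rfl⟩ : ∃ c, b = 2 * c := ⟨b / 2, by simp at h; omega⟩
      exact ⟨c * c, by rw [hb]; simp; ring, mul_self_nonneg c⟩
    · rw [hu] at h
      obtain ⟨c, rfl⟩ : ∃ c, b = 2 * c + 1 := ⟨b / 2, by simp at h; omega⟩
      refine ⟨c * c + c, by rw [hb]; simp; ring, ?_⟩
      rcases le_or_gt 0 c with h' | h' <;> nlinarith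
  choose a ha hpos using hsq
  have htot : 4 * (pc (uMask x) : ℤ) + 16 * ∑ r ∈ (Finset.range 56).attach, a r.1 (Finset.mem_range.1 r.2) = 16 := by
    refine Eq.trans ?_ h16
    rw [dot_co, ← Finset.sum_attach (Finset.range 56) (fun r ↦ co x r * co x r), pc_cast,
      ← Finset.sum_attach (Finset.range 56) (fun r ↦ bz (uMask x) r), Finset.mul_sum, Finset.mul_sum,
      ← Finset.sum_add_distrib]
    exact Finset.sum_congr rfl fun r _ ↦ (ha r.1 (Finset.mem_range.1 r.2)).symm
  have hnn : 0 ≤ ∑ r ∈ (Finset.range 56).attach, a r.1 (Finset.mem_range.1 r.2) :=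
    Finset.sum_nonneg fun r _ ↦ hpos _ _
  have hu4 : pc (uMask x) ≠ 4 := by
    intro h4
    rw [← card_bitsOf] at h4
    obtain ⟨q, w, e, f, hqw, hqe, hqf, hwe, hwf, hef, hS⟩ := Finset.card_eq_four.1 h4
    have hlt : ∀ r ∈ bitsOf (uMask x), r < 56 := fun r hr ↦ Finset.mem_range.1 (Finset.mem_filter.1 hr).1
    have hpar : ∀ j, (colN q Dat.colF ^^^ colN w Dat.colF).testBit j =
        (colN e Dat.colF ^^^ colN f Dat.colF).testBit j := by
      intro j
      simp only [Nat.testBit_xor, colN_spec]
      rcases lt_or_ge j Dat.colF.length with hj | hj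
      · have hg : gOK (Dat.colF.getD j 0) = true := by
          rw [List.getD_eq_getElem _ _ hj]
          exact List.all_eq_true.1 colF_ok _ (List.getElem_mem hj)
        have h0 := parity_gen hx hg
        rw [hp] at h0
        rw [show rhsN 0 (Dat.colF.getD j 0) = 0 by
          show (pc (0 &&& gW _ &&& ng _) + pc (0 &&& gW _) / 2) % 2 = 0
          rw [Nat.zero_and, Nat.zero_and, pc_zero], pc_and_bits, hS] at h0
        rw [Finset.sum_insert (by simp [hqw, hqe, hqf]), Finset.sum_insert (by simp [hwe, hwf]),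
          Finset.sum_insert (by simp [hef]), Finset.sum_singleton] at h0
        revert h0
        simp only [bit01, hj, decide_true, Bool.true_and]
        cases (gW (Dat.colF.getD j 0)).testBit q <;> cases (gW (Dat.colF.getD j 0)).testBit w <;>
          cases (gW (Dat.colF.getD j 0)).testBit e <;> cases (gW (Dat.colF.getD j 0)).testBit f <;> simp
      · simp [show ¬j < Dat.colF.length by omega]
    have heq := Nat.eq_of_testBit_eq hpar
    have hmem : ∀ r ∈ ({q, w, e, f} : Finset ℕ), r < 56 := hS ▸ hlt
    have lq := hmem q (by simp)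
    have lw := hmem w (by simp)
    have le' := hmem e (by simp)
    have lf := hmem f (by simp)
    rcases lt_or_gt_of_ne hqw with h1 | h1 <;> rcases lt_or_gt_of_ne hef with h2 | h2
    · have := pairKey_inj h1 lw h2 lf (by rw [pairKey_mk lw, pairKey_mk lf]; exact heq)
      exact hqe this.1
    · have := pairKey_inj h1 lw h2 le' (by
        rw [pairKey_mk lw, pairKey_mk le', Nat.xor_comm (colN f Dat.colF)]; exact heq)
      exact hqf this.1
    · have := pairKey_inj h1 lq h2 lf (by
        rw [pairKey_mk lq, pairKey_mk lf, Nat.xor_comm (colN w Dat.colF)]; exact heq)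
      exact hwe this.1
    · have := pairKey_inj h1 lq h2 le' (by
        rw [pairKey_mk lq, pairKey_mk le', Nat.xor_comm (colN w Dat.colF),
          Nat.xor_comm (colN f Dat.colF)]; exact heq)
      exact hwf this.1
  have hu0 : pc (uMask x) = 0 := by omega
  have hbz : ∀ r < 56, bz (uMask x) r = 0 := fun r hr ↦ by
    have h := hu0
    rw [pc_eq, Finset.sum_eq_zero_iff] at h
    have := h r (Finset.mem_range.2 hr)
    unfold bit01 at this
    unfold bz
    revert this
    cases (uMask x).testBit r <;> simp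
  have hsum : ∑ r ∈ (Finset.range 56).attach, a r.1 (Finset.mem_range.1 r.2) = 1 := by omega
  obtain ⟨r0, -, hr0⟩ := Finset.exists_ne_zero_of_sum_ne_zero (hsum.trans_ne one_ne_zero)
  have hr56 := Finset.mem_range.1 r0.2
  have ha1 : a r0.1 hr56 = 1 := by
    have h1 := Finset.single_le_sum (f := fun r : {r // r ∈ Finset.range 56} ↦ a r.1 (Finset.mem_range.1 r.2))
      (fun r _ ↦ hpos _ _) (Finset.mem_attach _ r0)
    have h2 := hpos r0.1 hr56
    have h3 : a r0.1 hr56 ≠ 0 := hr0
    omega
  have hother : ∀ r, ∀ hr : r < 56, r ≠ r0.1 → a r hr = 0 := by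
    intro r hr hne
    have h2 := Finset.add_le_sum (f := fun r : {r // r ∈ Finset.range 56} ↦ a r.1 (Finset.mem_range.1 r.2))
      (fun r _ ↦ hpos _ _) (Finset.mem_attach _ r0) (Finset.mem_attach _ ⟨r, Finset.mem_range.2 hr⟩)
      (fun e ↦ hne (congrArg Subtype.val e).symm)
    have := hpos r hr
    simp only at h2
    omega
  have hco : ∀ r < 56, r ≠ r0.1 → co x r = 0 := by
    intro r hr hne
    have := ha r hr
    rw [hbz r hr, hother r hr hne] at this
    exact mul_self_eq_zero.1 (by omega)
  have hc4 : co x r0.1 = 4 ∨ co x r0.1 = -4 := by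
    have := ha r0.1 hr56
    rw [hbz _ hr56, ha1] at this
    exact mul_self_eq_mul_self_iff.1 (this.trans (by norm_num))
  have key : ∀ s : ℕ, s < 2 → co x r0.1 = (if s = 1 then -4 else 4) → ∃ k, k < 16240 ∧ x = ptV k := by
    intro s hs hv
    have := allB_spec_zero axis_ok (show 112 ≤ 2 ^ 7 by norm_num) (show 2 * r0.1 + s < 112 by omega)
    simp only [Bool.or_eq_true, Bool.and_eq_true] at this
    rcases this with h | ⟨h1, h2⟩
    · exact absurd (Nat.le_of_ble_eq_true h) (by omega)
    refine ⟨_, Nat.le_of_ble_eq_true h1, ext_co fun r hr ↦ ?_⟩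
    have h2' : codeK (Dat.axisK.getD (2 * r0.1 + s) 16240) =
        2 ^ r0.1 + 72057594037927936 * (s * 2 ^ r0.1) := by
      rw [Nat.eq_of_beq_eq_true h2]
      show (1 <<< ((2 * r0.1 + s) / 2)) + 72057594037927936 * ((2 * r0.1 + s) % 2) *
        (1 <<< ((2 * r0.1 + s) / 2)) = _
      rw [show (2 * r0.1 + s) / 2 = r0.1 by omega, show (2 * r0.1 + s) % 2 = s by omega,
        Nat.shiftLeft_eq, one_mul, mul_assoc]
    rw [ptV, h2', co_vec _ _ hr]
    have hlt : 2 ^ r0.1 < 72057594037927936 := Nat.pow_lt_pow_right (by norm_num) hr56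
    have hwd : wd (2 ^ r0.1 + 72057594037927936 * (s * 2 ^ r0.1)) = 2 ^ r0.1 := by
      rw [wd, Nat.add_mul_mod_self_left]; exact Nat.mod_eq_of_lt hlt
    have hng : ng (2 ^ r0.1 + 72057594037927936 * (s * 2 ^ r0.1)) = s * 2 ^ r0.1 := by
      rw [ng, Nat.add_mul_div_left _ _ (by norm_num), Nat.div_eq_of_lt hlt, Nat.zero_add]
    have hsc : pc (2 ^ r0.1) = 1 := by
      rw [← card_bitsOf, show bitsOf (2 ^ r0.1) = {r0.1} by
        ext i; simp [bitsOf, Nat.testBit_two_pow]; constructor
        · rintro ⟨-, rfl⟩; rfl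
        · rintro rfl; exact ⟨hr56, rfl⟩]
      rfl
    rw [cf, hwd, hng, sc, hwd, hsc, Nat.testBit_two_pow]
    by_cases he : r0.1 = r
    · subst he
      rw [hv]
      rcases (show s = 0 ∨ s = 1 by omega) with rfl | rfl <;> simp
    · rw [hco r hr (Ne.symm he)]
      simp [he]
  rcases hc4 with h | h
  · exact key 0 (by norm_num) (by simpa using h)
  · exact key 1 (by norm_num) (by simpa using h)

/-- **Completeness.** -/
theorem complete {x : RuVec} (hx : x ∈ ruLattice) (h16 : dot x x = 16) : ∃ k, k < 16240 ∧ x = ptV k := by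
  have hle : pc (pMask x) ≤ 16 := by
    have h := norm_split h16
    omega
  obtain ⟨c, hc⟩ := support_cert hx hle
  match c, hc with
  | .sols steps ks, hc =>
    change (Nat.beq (pc (pMask x)) 16 && (stepsOK (pMask x) steps 0 &&
      lvEq (pMask x) (lvs (pMask x) steps 0) ks)) = true at hc
    simp only [Bool.and_eq_true] at hc
    exact sixteen hx h16 (Nat.eq_of_beq_eq_true hc.1) hc.2.1 hc.2.2
  | .none16 g1 g2, hc =>
    change (Nat.beq (pc (pMask x)) 16 && (gOK g1 && (gOK g2 &&
      (Nat.beq (pMask x &&& gW g1) (pMask x &&& gW g2) &&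
        !Nat.beq (rhsN (pMask x) g1) (rhsN (pMask x) g2))))) = true at hc
    simp only [Bool.and_eq_true, Bool.not_eq_true'] at hc
    obtain ⟨hp, h1, h2, hm, hne⟩ := hc
    exfalso
    have he : uMask x &&& (uMask x ^^^ (uMask x &&& pMask x)) = 0 := by
      have h := norm_split h16
      rw [Nat.eq_of_beq_eq_true hp] at h
      refine Nat.eq_of_testBit_eq fun r ↦ ?_
      have h0 : pc (eMask x) = 0 := by unfold eMask; omega
      rcases lt_or_ge r 56 with hr | hr
      · rw [pc_eq, Finset.sum_eq_zero_iff] at h0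
        have := h0 r (Finset.mem_range.2 hr)
        unfold bit01 eMask at this
        revert this
        rw [Nat.zero_testBit]
        cases (uMask x &&& (uMask x ^^^ (uMask x &&& pMask x))).testBit r <;> simp
      · rw [Nat.zero_testBit]
        exact Nat.testBit_eq_false_of_lt (lt_of_lt_of_le (eMask_lt x) (Nat.pow_le_pow_right (by norm_num) hr))
    have hsame : uMask x &&& gW g1 = uMask x &&& gW g2 := by
      refine Nat.eq_of_testBit_eq fun r ↦ ?_
      have e1 := congrArg (Nat.testBit · r) he
      have e2 := congrArg (Nat.testBit · r) (Nat.eq_of_beq_eq_true hm)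
      simp only [Nat.testBit_and, Nat.testBit_xor, Nat.zero_testBit] at e1 e2 ⊢
      revert e1 e2
      cases (uMask x).testBit r <;> cases (pMask x).testBit r <;> simp
    rw [← parity_gen hx h1, ← parity_gen hx h2, hsame,
      show Nat.beq (pc (uMask x &&& gW g2) % 2) (pc (uMask x &&& gW g2) % 2) = true from Nat.beq_refl _] at hne
    exact Bool.noConfusion hne
  | .none8 fs, hc =>
    change (Nat.beq (pc (pMask x)) 8 &&
      (fs.all (fun gs ↦ Nat.beq (Nat.land (hW gs) (pMask x)) 0 && gs.all gOK) &&
      (refuted (pMask x) fs 0 && allB (fun a ↦ Nat.ble 56 a ||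
        allB (fun b ↦ Nat.ble 56 b || (Nat.blt b a || pairE (pMask x) fs a b)) 6 0) 6 0))) = true at hc
    simp only [Bool.and_eq_true] at hc
    exact (eight hx h16 (Nat.eq_of_beq_eq_true hc.1) hc.2.1 hc.2.2.1 hc.2.2.2).elim
  | .zero, hc => exact axis hx h16 (Nat.eq_of_beq_eq_true hc)

end Cfsg.Agent.RuModel
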