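import Cfsg.Agent.RuModel.Comb

/-!
# The axis images of thirteen automorphisms (owner: helper52)

The maps are numbered: 0–6 lifts of seven involutions generating the simple group, 7 and 8 generators of a
point stabiliser's index 2 subgroup, 9 and 10 elements of odd projective order, 11 and 12 two monomial maps.
-/

set_option autoImplicit false
set_option maxRecDepth 4000

open Cfsg.Agent.CosetCert

namespace Cfsg.Agent.RuModel

/-- An axis image. -/
noncomputable def rowG (g r : ℕ) : ℕ := Dat.rowT.get 112 (Nat.add (Nat.mul 64 g) r)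

/-- The nibble tables. -/
def tabs : List (List PTree) :=
  [Dat.tab0, Dat.tab1, Dat.tab2, Dat.tab3, Dat.tab4, Dat.tab5, Dat.tab6, Dat.tab7, Dat.tab8, Dat.tab9,
    Dat.tab10, Dat.tab11, Dat.tab12]

/-- The nibble tables of one map. -/
def tabG (g : ℕ) : List PTree := tabs.getD g []

/-- The axis images commute with `i` and have valid signs. -/
noncomputable def irowsB (g : ℕ) : Bool :=
  allB (fun c ↦ Nat.ble 28 c || (goodB (rowG g (2 * c)) && Nat.beq (rowG g (2 * c + 1)) (iN (rowG g (2 * c))))) 5 0

/-- The axis images are orthogonal. -/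
noncomputable def orthB (g : ℕ) : Bool :=
  allB (fun i ↦
    Nat.ble 56 (Nat.div i 64) || (Nat.ble 56 (Nat.mod i 64) || (Nat.blt (Nat.mod i 64) (Nat.div i 64) ||
      Nat.beq (dN (rowG g (Nat.div i 64)) (rowG g (Nat.mod i 64)))
        (cond (Nat.beq (Nat.div i 64) (Nat.mod i 64)) 4112 4096)))) 12 0

/-- The image of a basis vector, as a point. -/
noncomputable def imBas (g t : ℕ) : ℕ := Dat.imB.get 16 (Nat.add (Nat.mul 56 g) t)

/-- The basis vectors go into the lattice. -/
noncomputable def basImB (g : ℕ) : Bool :=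
  allB (fun t ↦ Nat.ble 56 t || (goodB (bas t) && (goodB (codeK (imBas g t)) &&
    (chkIm (tabG g) Dat.tab13 (bas t) (codeK (imBas g t)) &&
      chkComb (Dat.combIm.get 952 (Nat.add (Nat.mul 56 g) t)) (packN 28 (codeK (imBas g t))))))) 6 0

theorem irows_ok : ∀ g : Fin 13, irowsB g.val = true := by decide +kernel

theorem tabs_ok : ∀ g : Fin 13, tabOK 14 (rowG g.val) (tabG g.val) = true := by decide +kernel

theorem tabId_ok : tabOK 14 idR Dat.tab13 = true := by decide +kernel

theorem basIm_ok : ∀ g : Fin 13, basImB g.val = true := by decide +kernel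

theorem orth_ok : ∀ g : Fin 13, orthB g.val = true := by decide +kernel

theorem allB_join {f : ℕ → Bool} {d lo : ℕ} (h1 : allB f d lo = true)
    (h2 : allB f d (lo + Nat.shiftLeft 1 d) = true) : allB f (d + 1) lo = true := by
  show (allB f d lo && allB f d (lo + Nat.shiftLeft 1 d)) = true
  rw [h1, h2]; rfl

end Cfsg.Agent.RuModel
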