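import Cfsg.Agent.RuModel.Lattice
import Cfsg.Agent.RuModel.GenChk

/-!
# Thirteen elements of the automorphism group of the lattice (owner: helper52)
-/

set_option autoImplicit false
set_option maxRecDepth 4000

open Cfsg.Spor Cfsg.Agent.RuLat Cfsg.Agent.CosetCert
open scoped BigOperators

namespace Cfsg.Agent.RuModel

theorem irows (g : Fin 13) : IRows (rowG g.val) := by
  intro c hc
  have := allB_spec_zero (irows_ok g) (by norm_num : 28 ≤ 2 ^ 5) hc
  simp only [Bool.or_eq_true, Bool.and_eq_true] at this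
  rcases this with h | ⟨h1, h2⟩
  · exact absurd (Nat.le_of_ble_eq_true h) (by omega)
  · exact ⟨good_of_goodB h1, by rw [Nat.eq_of_beq_eq_true h2, iN_eq]⟩

theorem dotC_of_dN {u v : ℕ} {a : ℕ} (h : Nat.beq (dN u v) a = true) : dotC u v = (a : ℤ) - 4096 := by
  rw [← Nat.eq_of_beq_eq_true h, dN_eq]; ring

theorem orth (g : Fin 13) : Orth (rowG g.val) := by
  have key : ∀ r < 56, ∀ s < 56, r ≤ s →
      dotC (rowG g.val r) (rowG g.val s) = if r = s then 16 else 0 := by
    intro r hr s hs hrs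
    have := allB_spec_zero (orth_ok g) (show 64 * 56 ≤ 2 ^ 12 by norm_num)
      (show 64 * r + s < 64 * 56 by omega)
    simp only [Bool.or_eq_true, show Nat.div (64 * r + s) 64 = r from (show (64 * r + s) / 64 = r by omega),
      show Nat.mod (64 * r + s) 64 = s from (show (64 * r + s) % 64 = s by omega)] at this
    rcases this with h | h | h | h
    · exact absurd (Nat.le_of_ble_eq_true h) (by omega)
    · exact absurd (Nat.le_of_ble_eq_true h) (by omega)
    · exact absurd (Nat.le_of_ble_eq_true h) (by omega)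
    · rw [dotC_of_dN h]
      by_cases e : r = s
      · rw [if_pos e, e, show Nat.beq s s = true from Nat.beq_refl s]; rfl
      · rw [if_neg e, show Nat.beq r s = false from by
          rcases h' : Nat.beq r s
          · rfl
          · exact absurd (Nat.eq_of_beq_eq_true h') e]
        rfl
  intro r hr s hs
  rcases le_total r s with h | h
  · exact key r hr s hs h
  · rw [← dot_vec, dot_comm, dot_vec, key s hs r hr h]
    simp only [eq_comm]

theorem bas_image (g : Fin 13) {t : ℕ} (ht : t < 56) :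
    Lv (rowG g.val) (vec (bas t)) = (4 : ℤ) • vec (codeK (imBas g.val t)) ∧
      vec (codeK (imBas g.val t)) ∈ ruLattice := by
  have := allB_spec_zero (basIm_ok g) (by norm_num : 56 ≤ 2 ^ 6) ht
  simp only [Bool.or_eq_true, Bool.and_eq_true] at this
  rcases this with h | ⟨h1, h2, h3, h4⟩
  · exact absurd (Nat.le_of_ble_eq_true h) (by omega)
  · exact ⟨chkIm_sound (tabs_ok g) tabId_ok (good_of_goodB h1) (good_of_goodB h2) h3,
      combB_code h4 ▸ combB_mem _⟩

theorem exists_image (g : Fin 13) (x : ruLattice) :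
    ∃ y : ruLattice, Lv (rowG g.val) (x : RuVec) = (4 : ℤ) • (y : RuVec) := by
  have : ∀ v : RuVec, v ∈ ruLattice →
      ∃ y ∈ ruLattice, Lv (rowG g.val) v = (4 : ℤ) • y := by
    intro v hv
    refine lattice_induct (P := fun v ↦ ∃ y ∈ ruLattice, Lv (rowG g.val) v = (4 : ℤ) • y)
      (fun t ht ↦ ⟨_, (bas_image g ht).2, (bas_image g ht).1⟩)
      ⟨0, zero_mem _, by rw [Lv_zero, smul_zero]⟩ ?_ ?_ hv
    · rintro x y ⟨a, ha, ea⟩ ⟨b, hb, eb⟩
      exact ⟨a + b, add_mem ha hb, by rw [Lv_add, ea, eb, smul_add]⟩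
    · rintro x ⟨a, ha, ea⟩
      exact ⟨-a, neg_mem ha, by rw [Lv_neg, ea, smul_neg]⟩
  obtain ⟨y, hy, e⟩ := this x.1 x.2
  exact ⟨⟨y, hy⟩, e⟩

/-- One of the maps on the lattice. -/
noncomputable def mapG (g : Fin 13) (x : ruLattice) : ruLattice := (exists_image g x).choose

theorem mapG_spec (g : Fin 13) (x : ruLattice) :
    Lv (rowG g.val) (x : RuVec) = (4 : ℤ) • (mapG g x : RuVec) := (exists_image g x).choose_spec

theorem mapG_eq (g : Fin 13) {x : ruLattice} {v : RuVec} (h : Lv (rowG g.val) (x : RuVec) = (4 : ℤ) • v) :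
    (mapG g x : RuVec) = v :=
  zsmul_inj (by norm_num) ((mapG_spec g x).symm.trans h)

theorem mapG_add (g : Fin 13) (x y : ruLattice) : mapG g (x + y) = mapG g x + mapG g y := by
  refine Subtype.ext (mapG_eq g ?_)
  rw [AddSubgroup.coe_add, Lv_add, mapG_spec, mapG_spec, AddSubgroup.coe_add, smul_add]

theorem coe_ruI (x : ruLattice) : (ruI x : RuVec) = iMul (x : RuVec) := gI_smul _

theorem mapG_ruI (g : Fin 13) (x : ruLattice) : mapG g (ruI x) = ruI (mapG g x) := by
  refine Subtype.ext (mapG_eq g ?_)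
  rw [coe_ruI, coe_ruI, Lv_iMul (irows g), mapG_spec, iMul_zsmul]

theorem mapG_dot (g : Fin 13) (x y : ruLattice) :
    dot (mapG g x : RuVec) (mapG g y : RuVec) = dot (x : RuVec) (y : RuVec) := by
  have := dot_Lv (orth g) (x : RuVec) (y : RuVec)
  rw [mapG_spec, mapG_spec, dot_zsmul, dot_zsmul_left] at this
  linarith

theorem mapG_zero (g : Fin 13) : mapG g 0 = 0 := by
  have := mapG_add g 0 0
  rw [add_zero] at this
  exact (left_eq_add.1 this)

theorem mapG_neg (g : Fin 13) (x : ruLattice) : mapG g (-x) = -mapG g x :=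
  eq_neg_of_add_eq_zero_left (by rw [← mapG_add, neg_add_cancel, mapG_zero])

theorem mapG_injective (g : Fin 13) : Function.Injective (mapG g) := by
  intro x y h
  have e : mapG g (x + -y) = 0 := by rw [mapG_add, mapG_neg, h, add_neg_cancel]
  have h2 := mapG_dot g (x + -y) (x + -y)
  rw [e] at h2
  have h3 : ((x + -y : ruLattice) : RuVec) = 0 := eq_zero_of_dot_self (h2.symm.trans (dot_zero _))
  exact add_neg_eq_zero.1 (Subtype.ext h3)

/-- The lattice vectors of norm sixteen. -/
abbrev Short : Type := {x : ruLattice // dot (x : RuVec) (x : RuVec) = 16}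

theorem short_bound (x : Short) (r : Fin 56) : |co (x.1 : RuVec) r.val| ≤ 4 := by
  have h : co (x.1 : RuVec) r.val * co (x.1 : RuVec) r.val ≤ 16 := by
    refine le_of_le_of_eq ?_ x.2
    rw [dot_co]
    exact Finset.single_le_sum (f := fun i ↦ co (x.1 : RuVec) i * co (x.1 : RuVec) i)
      (fun i _ ↦ mul_self_nonneg _) (Finset.mem_range.2 r.isLt)
  rw [abs_le]
  constructor <;> nlinarith

instance : Finite Short := by
  refine Finite.of_injective
    (fun x : Short ↦ fun r : Fin 56 ↦ (⟨(co (x.1 : RuVec) r.val + 4).toNat, by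
      have := abs_le.1 (short_bound x r); omega⟩ : Fin 9)) fun x y h ↦ ?_
  refine Subtype.ext (Subtype.ext (ext_co fun r hr ↦ ?_))
  have h' := congrArg Fin.val (congrFun h ⟨r, hr⟩)
  have h1 := abs_le.1 (short_bound x ⟨r, hr⟩)
  have h2 := abs_le.1 (short_bound y ⟨r, hr⟩)
  simp only at h' h1 h2
  omega

theorem bas_norm : ∀ t : Fin 56, Nat.beq (dN (bas t.val) (bas t.val)) 4112 = true := by decide +kernel

/-- The maps on the short vectors. -/
noncomputable def shortG (g : Fin 13) (x : Short) : Short :=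
  ⟨mapG g x.1, (mapG_dot g _ _).trans x.2⟩

theorem mapG_surjective (g : Fin 13) : Function.Surjective (mapG g) := by
  have hs : Function.Surjective (shortG g) :=
    Finite.surjective_of_injective fun x y h ↦
      Subtype.ext (mapG_injective g (congrArg Subtype.val h))
  intro y
  obtain ⟨y, hy⟩ := y
  have : ∃ x : ruLattice, (mapG g x : RuVec) = y := by
    refine lattice_induct (P := fun v ↦ ∃ x : ruLattice, (mapG g x : RuVec) = v) (fun t ht ↦ ?_)
      ⟨0, by rw [mapG_zero]; rfl⟩ ?_ ?_ hy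
    · obtain ⟨x, hx⟩ := hs ⟨⟨vec (bas t), bas_mem ht⟩, by
        show dot (vec (bas t)) (vec (bas t)) = 16
        rw [dot_vec, dotC_of_dN (bas_norm ⟨t, ht⟩)]; norm_num⟩
      exact ⟨x.1, congrArg (fun z : Short ↦ (z.1 : RuVec)) hx⟩
    · rintro a b ⟨u, rfl⟩ ⟨v, rfl⟩
      exact ⟨u + v, by rw [mapG_add]; rfl⟩
    · rintro a ⟨u, rfl⟩
      exact ⟨-u, by rw [mapG_neg]; rfl⟩
  obtain ⟨x, hx⟩ := this
  exact ⟨x, Subtype.ext hx⟩

/-- The thirteen automorphisms. -/
noncomputable def gen (g : Fin 13) : fourRu :=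
  ⟨Equiv.ofBijective (mapG g) ⟨mapG_injective g, mapG_surjective g⟩,
    mapG_add g, mapG_ruI g, fun v ↦ by rw [ruNorm_eq, ruNorm_eq]; exact mapG_dot g v v⟩

theorem gen_apply (g : Fin 13) (x : ruLattice) : (gen g : Equiv.Perm ruLattice) x = mapG g x := rfl

end Cfsg.Agent.RuModel
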