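import Cfsg.Agent.RuModel.GrpFun

/-! Checks on the levels of the base and the suborbits (owner: helper52). -/

set_option autoImplicit false
set_option maxRecDepth 4000
set_option Elab.async false

open Cfsg.Agent.CosetCert

namespace Cfsg.Agent.RuModel

theorem base_lt : Dat.base1 < 16240 ∧ Dat.base2 < 16240 ∧ Dat.base3 < 16240 ∧ Dat.base4 < 16240 ∧
    Dat.base5 < 16240 := by decide +kernel

theorem base_pos : pos2 Dat.base2 = Dat.pb2 ∧ pos2 Dat.base3 = Dat.pb3 ∧ pos2 Dat.base4 = Dat.pb4 ∧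
    pos2 Dat.base5 = Dat.pb5 ∧ l2 Dat.pb2 = Dat.base2 ∧ l2 Dat.pb3 = Dat.base3 ∧ l2 Dat.pb4 = Dat.base4 ∧
    l2 Dat.pb5 = Dat.base5 ∧ Dat.pb2 < 2304 ∧ Dat.pb3 < 2304 ∧ Dat.pb4 < 2304 ∧ Dat.pb5 < 2304 := by
  decide +kernel

/-- A point of the second level is listed. -/
noncomputable def level2B (k : ℕ) : Bool :=
  Nat.ble 16240 k || (!Nat.beq (sigc Dat.base1 k) (sigc Dat.base1 Dat.base2) ||
    (Nat.blt (pos2 k) 2304 && Nat.beq (l2 (pos2 k)) k))

theorem level2_p0 : allB level2B 12 0 = true := by decide +kernel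

theorem level2_p1 : allB level2B 12 4096 = true := by decide +kernel

theorem level2_p2 : allB level2B 12 8192 = true := by decide +kernel

theorem level2_p3 : allB level2B 12 12288 = true := by decide +kernel

theorem level2_ok : allB level2B 14 0 = true :=
  allB_join (allB_join level2_p0 level2_p1) (allB_join level2_p2 level2_p3)

theorem l2_ok : allB (fun m ↦ Nat.ble 2304 m || (Nat.blt (l2 m) 16240 && (Nat.beq (pos2 (l2 m)) m &&
    Nat.beq (sigc Dat.base1 (l2 m)) (sigc Dat.base1 Dat.base2)))) 12 0 = true := by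
  decide +kernel

theorem l3_ok : allB (fun j ↦ Nat.ble 300 j || (Nat.blt (Dat.l3T.get 16 j) 2304 &&
    (Nat.beq (Dat.l3P.get 16 (Dat.l3T.get 16 j)) j &&
      Nat.beq (sigc Dat.base2 (l2 (Dat.l3T.get 16 j))) (sigc Dat.base2 Dat.base3)))) 9 0 = true := by
  decide +kernel

theorem level3_ok : allB (fun m ↦ Nat.ble 2304 m ||
    (!Nat.beq (sigc Dat.base2 (l2 m)) (sigc Dat.base2 Dat.base3) ||
      (Nat.blt (Dat.l3P.get 16 m) 300 && Nat.beq (Dat.l3T.get 16 (Dat.l3P.get 16 m)) m))) 12 0 = true := by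
  decide +kernel

theorem level4_ok : allB (fun m ↦ Nat.ble 2304 m ||
    (!(Nat.beq (sigc Dat.base2 (l2 m)) (sigc Dat.base2 Dat.base4) &&
      Nat.beq (sigc Dat.base3 (l2 m)) (sigc Dat.base3 Dat.base4)) ||
      Dat.l4L.any (fun y ↦ Nat.beq y m))) 12 0 = true := by
  decide +kernel

theorem level5_ok : allB (fun m ↦ Nat.ble 2304 m ||
    (!(Nat.beq (sigc Dat.base2 (l2 m)) (sigc Dat.base2 Dat.base5) &&
      (Nat.beq (sigc Dat.base3 (l2 m)) (sigc Dat.base3 Dat.base5) &&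
        Nat.beq (sigc Dat.base4 (l2 m)) (sigc Dat.base4 Dat.base5))) ||
      Dat.l5L.any (fun y ↦ Nat.beq y m))) 12 0 = true := by
  decide +kernel

theorem small_levels : Dat.l4L.length = 26 ∧ Dat.l5L.length = 2 ∧
    Dat.l4L.all (fun y ↦ sepL3 Dat.base4 y) = true ∧ Dat.l5L.all (fun y ↦ sepL3 Dat.base5 y) = true := by
  decide +kernel

theorem singles_ok : allB (fun m ↦ Nat.ble 2304 m ||
    singleOK Dat.singM Dat.singSig (sigAll m) m) 12 0 = true := by
  decide +kernel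

theorem singSig_ok : Dat.singM.length = 37 ∧ Dat.singSig.length = 37 ∧
    ∀ i : Fin 37, Nat.beq (sigAll (Dat.singM.getD i.val 0)) (Dat.singSig.getD i.val 0) = true ∧
      Dat.singM.getD i.val 0 < 2304 := by
  decide +kernel

theorem o78_ok : allB (fun j ↦ Nat.ble 78 j || (Nat.blt (Dat.o78T.get 16 j) 2304 &&
    (Nat.beq (Dat.o78P.get 16 (Dat.o78T.get 16 j)) j &&
      Nat.beq (sigc Dat.base2 (l2 (Dat.o78T.get 16 j))) (4092 * 8192 + 4096)))) 7 0 = true := by
  decide +kernel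

theorem o78P_ok : allB (fun m ↦ Nat.ble 2304 m ||
    (!Nat.beq (sigc Dat.base2 (l2 m)) (4092 * 8192 + 4096) ||
      (Nat.blt (Dat.o78P.get 16 m) 78 && Nat.beq (Dat.o78T.get 16 (Dat.o78P.get 16 m)) m))) 12 0 = true := by
  decide +kernel

end Cfsg.Agent.RuModel
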