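import Cfsg.Agent.RuModel.Vec
import Cfsg.Agent.RuModel.Pack

/-!
# Checking the image of one coded vector (owner: helper52)
-/

set_option autoImplicit false
set_option maxRecDepth 4000

open Cfsg.Spor Cfsg.Agent.RuLat Cfsg.Agent.CosetCert
open scoped BigOperators

namespace Cfsg.Agent.RuModel

/-- `z'` is the image of `z` under the map with tables `tg`; `ti` are the tables of the axes. -/
noncomputable def chkIm (tg ti : List PTree) (z z' : ℕ) : Bool :=
  Nat.beq
    (Nat.mod (Nat.add (Nat.mul (scN z) (sumT tg (wdN z))) (Nat.mul (Nat.mul 2 (scN z')) (sumT ti (ngN z'))))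
      (NN 14))
    (Nat.mod (Nat.add (Nat.mul (scN z') (sumT ti (wdN z'))) (Nat.mul (Nat.mul 2 (scN z)) (sumT tg (ngN z))))
      (NN 14))

/-- Kernel check of the sign condition. -/
noncomputable def goodB (z : ℕ) : Bool := Nat.beq (Nat.land (ngN z) (wdN z)) (ngN z)

theorem good_of_goodB {z : ℕ} (h : goodB z = true) : Good z := Nat.eq_of_beq_eq_true h

theorem cf_split {z : ℕ} (hz : Good z) (r : ℕ) :
    cf z r = sc z * bz (wd z) r - 2 * sc z * bz (ng z) r := by
  have := hz.sub r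
  unfold cf bz
  revert this
  cases (wd z).testBit r <;> cases (ng z).testBit r <;> simp; ring

theorem sumT_vec {R : ℕ → ℕ} {tg : List PTree} (h : tabOK 14 R tg = true) {z : ℕ} (hz : Good z) :
    ((scN z : ℕ) : ZMod (NN 14)) * (sumT tg (wdN z) : ZMod (NN 14)) -
      2 * (scN z : ℕ) * (sumT tg (ngN z) : ZMod (NN 14)) = packV 14 (Lv R (vec z)) := by
  rw [sumT_spec (by norm_num) h, sumT_spec (by norm_num) h, Finset.mul_sum, Finset.mul_sum,
    ← Finset.sum_sub_distrib, Lv, map_sum]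
  refine Finset.sum_congr rfl fun r hr ↦ ?_
  rw [map_zsmul, co_vec _ _ (Finset.mem_range.1 hr), zsmul_eq_mul, cf_split hz, wdN_eq, ngN_eq]
  have e : ∀ w, ((bit01 w r : ℕ) : ZMod (NN 14)) = ((bz w r : ℤ) : ZMod (NN 14)) := fun w ↦ by
    unfold bit01 bz; split <;> simp
  rw [e, e, ← scN_eq]
  push_cast
  ring

/-- The rows of the identity. -/
def idR (r : ℕ) : ℕ := 2 ^ r

theorem idR_facts : ∀ r < 56, pc (wd (idR r)) = 1 ∧ wd (idR r) = 2 ^ r ∧ ng (idR r) = 0 := by
  decide +kernel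

theorem Lv_idR (x : RuVec) : Lv idR x = (4 : ℤ) • x := by
  refine ext_co fun j hj ↦ ?_
  rw [co_Lv _ _ _ hj, co_zsmul, Finset.sum_eq_single_of_mem j (Finset.mem_range.2 hj)]
  · obtain ⟨h1, h2, h3⟩ := idR_facts j hj
    rw [cf, h2, h3, sc, h1]
    simp [mul_comm]
  · intro r hr hrj
    obtain ⟨h1, h2, h3⟩ := idR_facts r (Finset.mem_range.1 hr)
    rw [cf, h2, Nat.testBit_two_pow]
    simp [hrj]

theorem abs_co_vec (z r : ℕ) (hr : r < 56) : |co (vec z) r| ≤ 4 := by
  rw [co_vec z r hr, abs_le]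
  exact cf_bound z r

theorem chkIm_sound {R : ℕ → ℕ} {tg ti : List PTree} (hg : tabOK 14 R tg = true)
    (hi : tabOK 14 idR ti = true) {z z' : ℕ} (hz : Good z) (hz' : Good z')
    (h : chkIm tg ti z z' = true) : Lv R (vec z) = (4 : ℤ) • vec z' := by
  have hm := cast_of_mod h
  simp only [Nat.add_eq, Nat.mul_eq, Nat.cast_add, Nat.cast_mul, Nat.cast_ofNat] at hm
  refine packV_inj (k := 14) (fun r hr ↦ ?_) ?_
  · rw [co_Lv _ _ _ hr, co_zsmul]
    have h1 : |∑ r' ∈ Finset.range 56, co (vec z) r' * cf (R r') r| ≤ 56 * 16 := by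
      refine (Finset.abs_sum_le_sum_abs _ _).trans ?_
      refine (Finset.sum_le_card_nsmul _ _ (16 : ℤ) fun r' hr' ↦ ?_).trans (by simp)
      rw [abs_mul]
      exact (mul_le_mul (abs_co_vec z r' (Finset.mem_range.1 hr')) (abs_le.2 (cf_bound _ _))
        (abs_nonneg _) (by norm_num)).trans (by norm_num)
    have h2 : |(4 : ℤ) * co (vec z') r| ≤ 16 := by
      rw [abs_mul, show |(4 : ℤ)| = 4 from rfl]
      exact (mul_le_mul_of_nonneg_left (abs_co_vec z' r hr) (by norm_num)).trans (by norm_num)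
    refine lt_of_le_of_lt ((abs_sub _ _).trans (add_le_add h1 h2)) ?_
    norm_num [BS]
  · rw [← sumT_vec hg hz, ← Lv_idR, ← sumT_vec hi hz']
    linear_combination hm

end Cfsg.Agent.RuModel
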