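import Cfsg.Agent.RuModel.GenChk

/-! The images of the 4060 representatives under map 7 (owner: helper52). -/

set_option autoImplicit false
set_option maxRecDepth 4000
set_option Elab.async false

open Cfsg.Agent.CosetCert

namespace Cfsg.Agent.RuModel

/-- The check of one image. -/
noncomputable def img7B (i : ℕ) : Bool :=
  Nat.ble 4060 i || (Nat.blt (Dat.imT7.get 16 i) 16240 &&
    chkIm Dat.tab7 Dat.tab13 (repN i) (codeK (Dat.imT7.get 16 i)))

theorem img7_p0 : allB img7B 10 0 = true := by decide +kernel

theorem img7_p1 : allB img7B 10 1024 = true := by decide +kernel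

theorem img7_p2 : allB img7B 10 2048 = true := by decide +kernel

theorem img7_p3 : allB img7B 10 3072 = true := by decide +kernel

theorem img7_ok : allB (fun i => Nat.ble 4060 i || (Nat.blt (Dat.imT7.get 16 i) 16240 &&
    chkIm Dat.tab7 Dat.tab13 (repN i) (codeK (Dat.imT7.get 16 i)))) 12 0 = true :=
  allB_join (f := img7B) (allB_join img7_p0 img7_p1) (allB_join img7_p2 img7_p3)

end Cfsg.Agent.RuModel
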