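import Cfsg.Agent.RuModel.Vec
import Cfsg.Agent.RuModel.Comb

/-!
# The lattice is spanned by fifty-six coded vectors (owner: helper52)
-/

set_option autoImplicit false
set_option maxRecDepth 4000

open Cfsg.Spor Cfsg.Agent.RuLat Cfsg.Agent.CosetCert
open scoped BigOperators

namespace Cfsg.Agent.RuModel

/-- The operations generating the lattice, by number. -/
def opV : ℕ → RuVec → RuVec
  | 0 => iMul
  | 1 => ruRj
  | 2 => ruRk
  | 3 => ruSign
  | _ => ruShift

/-- Apply operations in turn. -/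
def opsV : List ℕ → RuVec → RuVec
  | [], v => v
  | o :: l, v => opsV l (opV o v)

theorem opV_mem {v : RuVec} (hv : v ∈ ruLattice) (o : ℕ) : opV o v ∈ ruLattice := by
  rw [ruLattice, AddSubgroup.mem_sInf] at hv ⊢
  intro L hL
  obtain ⟨h0, h1, h2, h3, h4⟩ := hL.2 v (hv L hL)
  match o with
  | 0 => rw [opV, ← gI_smul]; exact h0
  | 1 => exact h1
  | 2 => exact h2
  | 3 => exact h3
  | n + 4 => exact h4

theorem table_mem {v : RuVec} (hv : v ∈ ruTable) : v ∈ ruLattice := by
  rw [ruLattice, AddSubgroup.mem_sInf]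
  exact fun L hL ↦ hL.1 v hv

theorem opsV_mem : ∀ (l : List ℕ) {v : RuVec}, v ∈ ruLattice → opsV l v ∈ ruLattice
  | [], _, hv => hv
  | o :: l, _, hv => opsV_mem l (opV_mem hv o)

theorem bas_origin : ∀ t : Fin 56, (Dat.basisW.getD t.val (0, [])).1 < 20 ∧
    eqB (vec (bas t.val)) (opsV (Dat.basisW.getD t.val (0, [])).2
      (ruTable.getD (Dat.basisW.getD t.val (0, [])).1 0)) := by
  decide +kernel

theorem bas_mem {t : ℕ} (ht : t < 56) : vec (bas t) ∈ ruLattice := by
  obtain ⟨hk, he⟩ := bas_origin ⟨t, ht⟩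
  rw [he.eq]
  refine opsV_mem _ (table_mem ?_)
  have hk' : (Dat.basisW.getD t (0, [])).1 < ruTable.length := table_length.symm ▸ hk
  rw [List.getD_eq_getElem _ _ hk']
  exact List.getElem_mem hk'

theorem combB_mem (C : ℕ) : combB C ∈ ruLattice :=
  sum_mem fun t ht ↦ zsmul_mem (bas_mem (Finset.mem_range.1 ht)) _

/-- The packed value of one of the old basis vectors, shifted by sixteen in every digit. -/
noncomputable def rowN (n : ℕ) : ℕ :=
  Nat.rec (motive := fun _ ↦ ℕ) 0
    (fun r ih ↦ Nat.add ih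
      (Nat.mul (Nat.mod (Nat.div n (Nat.pow 32 r)) 32) (Nat.shiftLeft 1 (Nat.mul 28 r)))) 56

/-- The shift. -/
noncomputable def onesN : ℕ :=
  Nat.rec (motive := fun _ ↦ ℕ) 0 (fun r ih ↦ Nat.add ih (Nat.shiftLeft 1 (Nat.mul 28 r))) 56

/-- The combination of a packed coefficient equals an old basis vector. -/
noncomputable def chkRow (c : ℕ) : Bool :=
  chkComb (Dat.combRow.getD c 0) (Nat.sub (Nat.add (rowN (rows.getD c 0)) (NN 28)) (Nat.mul 16 onesN))

theorem rows_ok : ∀ c : Fin 56, chkRow c.val = true := by decide +kernel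

theorem ones_le : 16 * onesN ≤ NN 28 := Nat.le_of_ble_eq_true (by decide +kernel)

theorem co_decN (n r : ℕ) (hr : r < 56) : co (decN n) r = digit n r := by
  unfold co decN
  rw [code_posIdx _ (by omega)]
  split
  · show digit n (2 * (r / 2)) = _
    congr 1; omega
  · show digit n (2 * (r / 2) + 1) = _
    congr 1; omega

theorem rowV_eq {c : ℕ} (hc : c < 56) : combB (Dat.combRow.getD c 0) = rowV c := by
  refine combB_eq (fun r hr ↦ ?_) ?_ (rows_ok ⟨c, hc⟩)
  · rw [rowV, if_pos hc, co_decN _ _ hr, digit, abs_le]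
    have := Nat.mod_lt (rows.getD c 0 / 32 ^ r) (show 32 > 0 by norm_num)
    omega
  rw [Nat.sub_eq, Nat.add_eq, Nat.mul_eq, Nat.cast_sub (ones_le.trans (Nat.le_add_left _ _)),
    Nat.cast_add, ZMod.natCast_self, add_zero, rowV, if_pos hc]
  show _ = ((packZ 28 56 (co (decN (rows.getD c 0))) : ℤ) : ZMod (NN 28))
  have key : ∀ n ≤ 56,
      ((Nat.rec (motive := fun _ ↦ ℕ) 0
        (fun r ih ↦ Nat.add ih
          (Nat.mul (Nat.mod (Nat.div (rows.getD c 0) (Nat.pow 32 r)) 32)
            (Nat.shiftLeft 1 (Nat.mul 28 r)))) n : ℕ) : ZMod (NN 28)) -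
      16 * ((Nat.rec (motive := fun _ ↦ ℕ) 0
        (fun r ih ↦ Nat.add ih (Nat.shiftLeft 1 (Nat.mul 28 r))) n : ℕ) : ZMod (NN 28)) =
      ((packZ 28 n (co (decN (rows.getD c 0))) : ℤ) : ZMod (NN 28)) := by
    intro n
    induction n with
    | zero => intro _; simp [packZ]
    | succ n ih =>
      intro hn
      rw [packZ, Finset.sum_range_succ, ← packZ, Int.cast_add, ← ih (by omega),
        co_decN _ _ (by omega), digit]
      have hp : Nat.shiftLeft 1 (Nat.mul 28 n) = BS 28 ^ n := by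
        show 1 <<< (28 * n) = _
        rw [Nat.shiftLeft_eq, one_mul, BS, ← pow_mul]
      show ((Nat.add _ (Nat.mul (rows.getD c 0 / 32 ^ n % 32) _) : ℕ) : ZMod (NN 28)) -
        16 * ((Nat.add _ _ : ℕ) : ZMod (NN 28)) = _
      rw [hp, Nat.add_eq, Nat.add_eq, Nat.mul_eq]
      simp only [Int.cast_sub, Int.cast_mul, Int.cast_pow, Int.cast_natCast, Int.cast_ofNat, Nat.cast_add,
        Nat.cast_mul, Nat.cast_pow]
      ring
  have := key 56 le_rfl
  push_cast
  exact this

theorem span_le : span ≤ ruLattice := by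
  refine (AddSubgroup.closure_le _).2 ?_
  rintro _ ⟨c, rfl⟩
  rcases rowV_cases c with h | hc
  · rw [h]; exact zero_mem _
  · rw [← rowV_eq hc]; exact combB_mem _

theorem span_eq : span = ruLattice := le_antisymm span_le ruLattice_le

theorem four_dvd {x y : RuVec} (hx : x ∈ ruLattice) (hy : y ∈ ruLattice) : (4 : ℤ) ∣ dot x y :=
  four_dvd_dot (ruLattice_le hx) (ruLattice_le hy)

/-- The lattice is the closure of the coded basis. -/
theorem lattice_le_closure : ruLattice ≤ AddSubgroup.closure (Set.range fun t : Fin 56 ↦ vec (bas t.val)) := by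
  refine ruLattice_le.trans ((AddSubgroup.closure_le _).2 ?_)
  rintro _ ⟨c, rfl⟩
  rcases rowV_cases c with h | hc
  · rw [h]; exact zero_mem _
  · rw [← rowV_eq hc]
    exact sum_mem fun t ht ↦ zsmul_mem
      (AddSubgroup.subset_closure (k := Set.range fun t : Fin 56 ↦ vec (bas t.val))
        ⟨⟨t, Finset.mem_range.1 ht⟩, rfl⟩) _

theorem lattice_induct {P : RuVec → Prop} (hb : ∀ t < 56, P (vec (bas t))) (h0 : P 0)
    (ha : ∀ x y, P x → P y → P (x + y)) (hn : ∀ x, P x → P (-x)) {x : RuVec} (hx : x ∈ ruLattice) :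
    P x := by
  have hc := lattice_le_closure hx
  clear hx
  induction hc using AddSubgroup.closure_induction with
  | mem x hx => obtain ⟨t, rfl⟩ := hx; exact hb t.val t.isLt
  | zero => exact h0
  | add x y _ _ h1 h2 => exact ha x y h1 h2
  | neg x _ h => exact hn x h

end Cfsg.Agent.RuModel
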