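import Cfsg.Agent.RuModel.Comb

/-! Checks on the table of the 16240 coded vectors (owner: helper52). -/

set_option autoImplicit false
set_option maxRecDepth 4000

open Cfsg.Agent.CosetCert

namespace Cfsg.Agent.RuModel

/-- The image tables of the first nine maps. -/
def imTs : List PTree :=
  [Dat.imT0, Dat.imT1, Dat.imT2, Dat.imT3, Dat.imT4, Dat.imT5, Dat.imT6, Dat.imT7, Dat.imT8]

/-- The image of the representative of a line. -/
noncomputable def imK (g i : ℕ) : ℕ := (imTs.getD g (PTree.leaf 0)).get 16 i

/-- One step of the spanning tree of the lines. -/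
noncomputable def treeB (i : ℕ) : Bool :=
  let e := Dat.treeT.get 32 i
  let j := Nat.mod (Nat.div e 8) 4096
  Nat.beq i 0 || (Nat.blt (Nat.mod e 8) 7 && (Nat.blt j 4060 &&
    (Nat.blt (Nat.div (Nat.div (Dat.treeT.get 32 j) 8) 4096) (Nat.div (Nat.div e 8) 4096) &&
      Nat.beq (Nat.div (imK (Nat.mod e 8) j) 4) i)))

theorem tree_ok : allB (fun i => Nat.ble 4060 i || treeB i) 12 0 = true := by decide +kernel

theorem rep_good : allB (fun i => Nat.ble 4060 i || goodB (repN i)) 12 0 = true := by decide +kernel

theorem rep_zero_ok : chkComb Dat.combRep (packN 28 (repN 0)) = true := by decide +kernel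

theorem rep_norm : allB (fun i => Nat.ble 4060 i || Nat.beq (dN (repN i) (repN i)) 4112) 12 0 = true := by
  decide +kernel

theorem srt_pos : allB (fun k => Nat.ble 16240 k || (Nat.blt (Dat.posT.get 16 k) 16240 &&
    Nat.beq (Dat.srtT.get 16 (Dat.posT.get 16 k)) k)) 14 0 = true := by
  decide +kernel

theorem srt_mono : allB (fun p => Nat.ble 16239 p ||
    Nat.blt (codeK (Dat.srtT.get 16 p)) (codeK (Dat.srtT.get 16 (Nat.add p 1)))) 14 0 = true := by
  decide +kernel

end Cfsg.Agent.RuModel
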