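import Cfsg.Agent.RuModel.Gen
import Cfsg.Agent.RuModel.PtChk
import Cfsg.Agent.RuModel.ImgChk0
import Cfsg.Agent.RuModel.ImgChk1
import Cfsg.Agent.RuModel.ImgChk2
import Cfsg.Agent.RuModel.ImgChk3
import Cfsg.Agent.RuModel.ImgChk4
import Cfsg.Agent.RuModel.ImgChk5
import Cfsg.Agent.RuModel.ImgChk6
import Cfsg.Agent.RuModel.ImgChk7
import Cfsg.Agent.RuModel.ImgChk8

/-!
# The 16240 short vectors and the action of the maps on them (owner: helper52)
-/

set_option autoImplicit false
set_option maxRecDepth 4000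

open Cfsg.Spor Cfsg.Agent.RuLat Cfsg.Agent.CosetCert

namespace Cfsg.Agent.RuModel

/-- The point `k` rotated by `i ^ v`. -/
def rot (k v : ℕ) : ℕ := 4 * (k / 4) + (k + v) % 4

theorem rot_lt {k : ℕ} (hk : k < 16240) (v : ℕ) : rot k v < 16240 := by unfold rot; omega

/-- The vector of a point. -/
noncomputable def ptV (k : ℕ) : RuVec := vec (codeK k)

theorem repN_good {i : ℕ} (hi : i < 4060) : Good (repN i) := by
  have := allB_spec_zero rep_good (by norm_num : 4060 ≤ 2 ^ 12) hi
  simp only [Bool.or_eq_true] at this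
  rcases this with h | h
  · exact absurd (Nat.le_of_ble_eq_true h) (by omega)
  · exact good_of_goodB h

theorem codeK_eq (k : ℕ) : codeK k = unitC (k % 4) (repN (k / 4)) := by
  have h : k % 4 = 0 ∨ k % 4 = 1 ∨ k % 4 = 2 ∨ k % 4 = 3 := by omega
  show cond (Nat.blt (k % 4) 2) (cond (Nat.beq (k % 4) 0) (repN (k / 4)) (iN (repN (k / 4))))
    (cond (Nat.beq (k % 4) 2) (iN (iN (repN (k / 4)))) (iN (iN (iN (repN (k / 4)))))) = _
  rcases h with h | h | h | h <;> rw [h] <;> rfl

theorem good_unitC {z : ℕ} (hz : Good z) : ∀ v, Good (unitC v z)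
  | 0 => hz
  | v + 1 => good_iC (good_unitC hz v)

theorem vec_unitC {z : ℕ} (hz : Good z) : ∀ v, vec (unitC v z) = iMul^[v] (vec z)
  | 0 => rfl
  | v + 1 => by
    rw [Function.iterate_succ_apply', ← vec_unitC hz v]
    exact vec_iC (good_unitC hz v)

theorem codeK_good {k : ℕ} (hk : k < 16240) : Good (codeK k) := by
  rw [codeK_eq]; exact good_unitC (repN_good (by omega)) _

theorem iMul_iter_mod (v : ℕ) (x : RuVec) : iMul^[v] x = iMul^[v % 4] x := by
  conv_lhs => rw [← Nat.mod_add_div v 4, Function.iterate_add_apply]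
  congr 1
  induction v / 4 with
  | zero => rfl
  | succ n ih =>
    rw [Nat.mul_succ, Function.iterate_add_apply]
    show iMul^[4 * n] (iMul (iMul (iMul (iMul x)))) = x
    rw [iMul_four, ih]

theorem ptV_rot {k : ℕ} (hk : k < 16240) (v : ℕ) : ptV (rot k v) = iMul^[v] (ptV k) := by
  have hg := repN_good (show k / 4 < 4060 by omega)
  rw [ptV, ptV, codeK_eq, codeK_eq, vec_unitC, vec_unitC hg,
    ← Function.iterate_add_apply, show rot k v / 4 = k / 4 by unfold rot; omega,
    iMul_iter_mod (rot k v % 4), iMul_iter_mod (v + k % 4)]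
  · congr 1
    (first | (unfold rot; omega) | (congr 1; unfold rot; omega))
  · rw [show rot k v / 4 = k / 4 by unfold rot; omega]; exact hg

/-- The image of a point under one of the first nine maps. -/
noncomputable def imP (g k : ℕ) : ℕ :=
  Nat.add (Nat.mul 4 (Nat.div (imK g (Nat.div k 4)) 4)) (Nat.mod (Nat.add (imK g (Nat.div k 4)) (Nat.mod k 4)) 4)

theorem imP_eq (g k : ℕ) : imP g k = rot (imK g (k / 4)) (k % 4) := rfl

theorem img_all (g : Fin 9) :
    allB (fun i => Nat.ble 4060 i || (Nat.blt (imK g.val i) 16240 &&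
      chkIm (tabG g.val) Dat.tab13 (repN i) (codeK (imK g.val i)))) 12 0 = true := by
  fin_cases g
  exacts [img0_ok, img1_ok, img2_ok, img3_ok, img4_ok, img5_ok, img6_ok, img7_ok, img8_ok]

theorem img_spec (g : Fin 9) {i : ℕ} (hi : i < 4060) : imK g.val i < 16240 ∧
    Lv (rowG g.val) (vec (repN i)) = (4 : ℤ) • vec (codeK (imK g.val i)) := by
  have := allB_spec_zero (img_all g) (by norm_num : 4060 ≤ 2 ^ 12) hi
  simp only [Bool.or_eq_true, Bool.and_eq_true] at this
  rcases this with h | ⟨h1, h2⟩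
  · exact absurd (Nat.le_of_ble_eq_true h) (by omega)
  · have h1' : imK g.val i < 16240 := Nat.le_of_ble_eq_true h1
    exact ⟨h1', chkIm_sound (tabs_ok ⟨g.val, by omega⟩) tabId_ok (repN_good hi) (codeK_good h1') h2⟩

theorem imP_lt (g : Fin 9) {k : ℕ} (hk : k < 16240) : imP g.val k < 16240 := by
  rw [imP_eq]; exact rot_lt (img_spec g (by omega)).1 _

theorem Lv_ptV (g : Fin 9) {k : ℕ} (hk : k < 16240) :
    Lv (rowG g.val) (ptV k) = (4 : ℤ) • ptV (imP g.val k) := by
  obtain ⟨h1, h2⟩ := img_spec g (show k / 4 < 4060 by omega)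
  rw [imP_eq, ptV_rot h1]
  rw [show ptV k = iMul^[k % 4] (vec (repN (k / 4))) by
    rw [ptV, codeK_eq, vec_unitC (repN_good (by omega))]]
  generalize k % 4 = v
  induction v with
  | zero => exact h2
  | succ v ih =>
    rw [Function.iterate_succ_apply', Lv_iMul (irows ⟨g.val, by omega⟩), ih, iMul_zsmul,
      Function.iterate_succ_apply']

theorem iMul_mem {x : RuVec} (hx : x ∈ ruLattice) : iMul x ∈ ruLattice :=
  gI_smul x ▸ gI_smul_mem_ruLattice hx

theorem iMul_iter_mem {x : RuVec} (hx : x ∈ ruLattice) : ∀ v : ℕ, iMul^[v] x ∈ ruLattice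
  | 0 => hx
  | v + 1 => by rw [Function.iterate_succ_apply']; exact iMul_mem (iMul_iter_mem hx v)

theorem gen_image_mem (g : Fin 13) {x y : RuVec} (hx : x ∈ ruLattice)
    (h : Lv (rowG g.val) x = (4 : ℤ) • y) : y ∈ ruLattice := by
  have := mapG_eq g (x := ⟨x, hx⟩) h
  rw [← this]; exact SetLike.coe_mem _

theorem ptV_mem_line : ∀ d i, i < 4060 → Dat.treeT.get 32 i / 8 / 4096 = d → vec (repN i) ∈ ruLattice := by
  intro d
  induction d using Nat.strong_induction_on with
  | _ d ih =>
    intro i hi hd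
    have := allB_spec_zero tree_ok (by norm_num : 4060 ≤ 2 ^ 12) hi
    simp only [Bool.or_eq_true, treeB, Bool.and_eq_true] at this
    rcases this with h | h | ⟨hg, hj, hlt, he⟩
    · exact absurd (Nat.le_of_ble_eq_true h) (by omega)
    · obtain rfl := Nat.eq_of_beq_eq_true h
      exact combB_code rep_zero_ok ▸ combB_mem _
    have hg' : Dat.treeT.get 32 i % 8 < 7 := Nat.le_of_ble_eq_true hg
    have hj' : Dat.treeT.get 32 i / 8 % 4096 < 4060 := Nat.le_of_ble_eq_true hj
    have hlt' : Dat.treeT.get 32 (Dat.treeT.get 32 i / 8 % 4096) / 8 / 4096 < d :=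
      hd ▸ Nat.le_of_ble_eq_true hlt
    have hm := ih _ hlt' _ hj' rfl
    obtain ⟨h1, h2⟩ := img_spec ⟨Dat.treeT.get 32 i % 8, by omega⟩ hj'
    have hy := gen_image_mem ⟨Dat.treeT.get 32 i % 8, by omega⟩ hm h2
    have he' : imK (Dat.treeT.get 32 i % 8) (Dat.treeT.get 32 i / 8 % 4096) / 4 = i :=
      Nat.eq_of_beq_eq_true he
    generalize hk : imK (Dat.treeT.get 32 i % 8) (Dat.treeT.get 32 i / 8 % 4096) = k at h1 hy he'
    have e : ptV (rot k (4 - k % 4)) = vec (repN i) := by
      rw [ptV, codeK_eq, show rot k (4 - k % 4) % 4 = 0 by unfold rot; omega,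
        show rot k (4 - k % 4) / 4 = k / 4 by unfold rot; omega, he']
      rfl
    rw [← e, ptV_rot (by rw [← hk]; exact (img_spec ⟨Dat.treeT.get 32 i % 8, by omega⟩ hj').1)]
    exact iMul_iter_mem hy _

theorem ptV_mem {k : ℕ} (hk : k < 16240) : ptV k ∈ ruLattice := by
  rw [ptV, codeK_eq, vec_unitC (repN_good (by omega))]
  exact iMul_iter_mem (ptV_mem_line _ _ (by omega) rfl) _

theorem dot_iMul (x y : RuVec) : dot (iMul x) (iMul y) = dot x y :=
  Finset.sum_congr rfl fun p _ ↦ by simp [iMul]; ring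

theorem ptV_norm {k : ℕ} (hk : k < 16240) : dot (ptV k) (ptV k) = 16 := by
  rw [ptV, codeK_eq, vec_unitC (repN_good (by omega))]
  induction k % 4 with
  | zero =>
    have := allB_spec_zero rep_norm (by norm_num : 4060 ≤ 2 ^ 12) (show k / 4 < 4060 by omega)
    simp only [Bool.or_eq_true] at this
    rcases this with h | h
    · exact absurd (Nat.le_of_ble_eq_true h) (by omega)
    · show dot (vec _) (vec _) = 16
      rw [dot_vec, dotC_of_dN h]; norm_num
  | succ v ih => rw [Function.iterate_succ_apply', dot_iMul, ih]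

theorem bits_of_vec {u v : ℕ} (hu : Good u) (hv : Good v) (h : vec u = vec v) :
    wd u = wd v ∧ ng u = ng v := by
  have hc : ∀ r < 56, cf u r = cf v r := fun r hr ↦ by rw [← co_vec u r hr, ← co_vec v r hr, h]
  have hw : wd u = wd v := by
    refine Nat.eq_of_testBit_eq fun r ↦ ?_
    rcases lt_or_ge r 56 with hr | hr
    · have := hc r hr
      unfold cf at this
      rcases sc_cases u with e | e <;> rcases sc_cases v with e' | e' <;> rw [e, e'] at this <;>
        revert this <;> cases (wd u).testBit r <;> cases (wd v).testBit r <;> cases (ng u).testBit r <;>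
          cases (ng v).testBit r <;> simp
    · rw [Nat.testBit_eq_false_of_lt (lt_of_lt_of_le (wd_lt u) (Nat.pow_le_pow_right (by norm_num) hr)),
        Nat.testBit_eq_false_of_lt (lt_of_lt_of_le (wd_lt v) (Nat.pow_le_pow_right (by norm_num) hr))]
  refine ⟨hw, Nat.eq_of_testBit_eq fun r ↦ ?_⟩
  rcases lt_or_ge r 56 with hr | hr
  · have hc' := hc r hr
    have hsc : sc u = sc v := by unfold sc; rw [hw]
    have h1 := hu.sub r
    have h2 := hv.sub r
    unfold cf at hc'
    rw [← hw] at hc' h2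
    rw [← hsc] at hc'
    revert hc' h1 h2
    rcases sc_cases u with e | e <;> rw [e] <;> cases (wd u).testBit r <;> cases (ng u).testBit r <;>
      cases (ng v).testBit r <;> simp
  · have h1 := hu.sub r
    have h2 := hv.sub r
    have f : ∀ z, (wd z).testBit r = false := fun z ↦
      Nat.testBit_eq_false_of_lt (lt_of_lt_of_le (wd_lt z) (Nat.pow_le_pow_right (by norm_num) hr))
    rw [f] at h1 h2
    revert h1 h2
    cases (ng u).testBit r <;> cases (ng v).testBit r <;> simp

theorem ptV_inj {k l : ℕ} (hk : k < 16240) (hl : l < 16240) (h : ptV k = ptV l) : k = l := by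
  obtain ⟨h1, h2⟩ := bits_of_vec (codeK_good hk) (codeK_good hl) h
  have he : codeK k = codeK l := by
    rw [← Nat.mod_add_div (codeK k) 72057594037927936, ← Nat.mod_add_div (codeK l) 72057594037927936]
    show wd (codeK k) + _ * ng (codeK k) = wd (codeK l) + _ * ng (codeK l)
    rw [h1, h2]
  have hp : ∀ m < 16240, Dat.posT.get 16 m < 16240 ∧ Dat.srtT.get 16 (Dat.posT.get 16 m) = m := by
    intro m hm
    have := allB_spec_zero srt_pos (by norm_num : 16240 ≤ 2 ^ 14) hm
    simp only [Bool.or_eq_true, Bool.and_eq_true] at this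
    rcases this with h | ⟨h1, h2⟩
    · exact absurd (Nat.le_of_ble_eq_true h) (by omega)
    · exact ⟨Nat.le_of_ble_eq_true h1, Nat.eq_of_beq_eq_true h2⟩
  have hm : ∀ d p, p + d + 1 < 16240 →
      codeK (Dat.srtT.get 16 p) < codeK (Dat.srtT.get 16 (p + d + 1)) := by
    have step : ∀ p, p + 1 < 16240 → codeK (Dat.srtT.get 16 p) < codeK (Dat.srtT.get 16 (p + 1)) := by
      intro p hp
      have := allB_spec_zero srt_mono (show 16239 ≤ 2 ^ 14 by norm_num) (show p < 16239 by omega)
      simp only [Bool.or_eq_true] at this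
      rcases this with h | h
      · exact absurd (Nat.le_of_ble_eq_true h) (by omega)
      · exact Nat.le_of_ble_eq_true h
    intro d
    induction d with
    | zero => intro p hp; exact step p hp
    | succ d ih => intro p hp; exact lt_trans (ih p (by omega)) (step (p + d + 1) hp)
  rcases lt_trichotomy (Dat.posT.get 16 k) (Dat.posT.get 16 l) with hh | hh | hh
  · have := hm (Dat.posT.get 16 l - Dat.posT.get 16 k - 1) (Dat.posT.get 16 k)
      (by have := (hp l hl).1; omega)
    rw [show Dat.posT.get 16 k + (Dat.posT.get 16 l - Dat.posT.get 16 k - 1) + 1 = Dat.posT.get 16 l by omega,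
      (hp k hk).2, (hp l hl).2, he] at this
    exact absurd this (lt_irrefl _)
  · rw [← (hp k hk).2, hh, (hp l hl).2]
  · have := hm (Dat.posT.get 16 k - Dat.posT.get 16 l - 1) (Dat.posT.get 16 l)
      (by have := (hp k hk).1; omega)
    rw [show Dat.posT.get 16 l + (Dat.posT.get 16 k - Dat.posT.get 16 l - 1) + 1 = Dat.posT.get 16 k by omega,
      (hp k hk).2, (hp l hl).2, he] at this
    exact absurd this (lt_irrefl _)

/-- The point `k` as a lattice vector. -/
noncomputable def ptL (k : Fin 16240) : ruLattice := ⟨ptV k.val, ptV_mem k.isLt⟩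

theorem gen_ptL (g : Fin 9) (k : Fin 16240) :
    (gen ⟨g.val, by omega⟩ : Equiv.Perm ruLattice) (ptL k) = ptL ⟨imP g.val k.val, imP_lt g k.isLt⟩ :=
  Subtype.ext (mapG_eq _ (Lv_ptV g k.isLt))

end Cfsg.Agent.RuModel
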