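import Cfsg.Agent.RuModel.Img
import Cfsg.Agent.RuModel.Tab0
import Cfsg.Agent.RuModel.Tab1
import Cfsg.Agent.RuModel.Tab2
import Cfsg.Agent.RuModel.Points

/-!
# The 16240 coded vectors (owner: helper52)
-/

set_option autoImplicit false
set_option maxRecDepth 4000

open Cfsg.Spor Cfsg.Agent.RuLat Cfsg.Agent.CosetCert

namespace Cfsg.Agent.RuModel

/-- Multiplication by `i` on codes, kernel version. -/
noncomputable def iN (z : ℕ) : ℕ :=
  Nat.add
    (Nat.lor (Nat.shiftLeft (Nat.land (wdN z) 0x55555555555555) 1)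
      (Nat.land (Nat.shiftRight (wdN z) 1) 0x55555555555555))
    (Nat.mul 72057594037927936
      (Nat.lor (Nat.shiftLeft (Nat.land (ngN z) 0x55555555555555) 1)
        (Nat.land (Nat.shiftRight (Nat.xor (wdN z) (ngN z)) 1) 0x55555555555555)))

theorem iN_eq (z : ℕ) : iN z = iC z := rfl

/-- The code of a line representative. -/
noncomputable def repN (i : ℕ) : ℕ := Dat.repT.get 112 i

/-- The code of a point. -/
noncomputable def codeK (k : ℕ) : ℕ :=
  let z := repN (Nat.div k 4)
  cond (Nat.blt (Nat.mod k 4) 2) (cond (Nat.beq (Nat.mod k 4) 0) z (iN z))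
    (cond (Nat.beq (Nat.mod k 4) 2) (iN (iN z)) (iN (iN (iN z))))

end Cfsg.Agent.RuModel
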