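import Cfsg.Agent.RuModel.Code

/-!
# Linear maps of the rank 28 lattice given by the images of the axes (owner: helper52)
-/

set_option autoImplicit false

open Cfsg.Spor Cfsg.Agent.RuLat
open scoped BigOperators

namespace Cfsg.Agent.RuModel

theorem dot_zero_left (y : RuVec) : dot 0 y = 0 := by rw [dot_comm, dot_zero]

theorem dot_add_left (x y z : RuVec) : dot (x + y) z = dot x z + dot y z := by
  rw [dot_comm, dot_add, dot_comm z x, dot_comm z y]

/-- The product with a fixed vector, as a homomorphism. -/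
def dotHom (x : RuVec) : RuVec →+ ℤ where
  toFun y := dot x y
  map_zero' := dot_zero x
  map_add' := dot_add x

theorem dot_zsmul (k : ℤ) (x y : RuVec) : dot x (k • y) = k * dot x y := by
  have := map_zsmul (dotHom x) k y
  simpa [dotHom] using this

theorem dot_zsmul_left (k : ℤ) (x y : RuVec) : dot (k • x) y = k * dot x y := by
  rw [dot_comm, dot_zsmul, dot_comm]

/-- Multiplication by `i` as a homomorphism. -/
def iHom : RuVec →+ RuVec where
  toFun := iMul
  map_zero' := funext fun p ↦ Zsqrtd.ext (by simp [iMul]) (by simp [iMul])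
  map_add' x y := funext fun p ↦ Zsqrtd.ext (by simp [iMul, add_comm]) (by simp [iMul])

theorem iMul_iMul (x : RuVec) : iMul (iMul x) = -x :=
  funext fun p ↦ Zsqrtd.ext (by simp [iMul]) (by simp [iMul])

theorem iMul_neg (x : RuVec) : iMul (-x) = -iMul x := map_neg iHom x

theorem iMul_four (x : RuVec) : iMul (iMul (iMul (iMul x))) = x := by
  rw [iMul_iMul, iMul_iMul, neg_neg]

theorem iMul_zsmul (k : ℤ) (x : RuVec) : iMul (k • x) = k • iMul x := map_zsmul iHom k x

theorem co_iMul (x : RuVec) (c : ℕ) (_hc : c < 28) :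
    co (iMul x) (2 * c) = -co x (2 * c + 1) ∧ co (iMul x) (2 * c + 1) = co x (2 * c) := by
  unfold co
  rw [if_pos (show 2 * c % 2 = 0 by omega), if_pos (show 2 * c % 2 = 0 by omega),
    if_neg (show ¬(2 * c + 1) % 2 = 0 by omega), if_neg (show ¬(2 * c + 1) % 2 = 0 by omega),
    show 2 * c / 2 = c by omega, show (2 * c + 1) / 2 = c by omega]
  exact ⟨rfl, rfl⟩

theorem eq_zero_of_dot_self {x : RuVec} (h : dot x x = 0) : x = 0 := by
  refine ext_co fun r hr ↦ ?_
  rw [co_zero]
  rw [dot_co, Finset.sum_eq_zero_iff_of_nonneg fun r _ ↦ mul_self_nonneg _] at h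
  exact mul_self_eq_zero.1 (h r (Finset.mem_range.2 hr))

theorem zsmul_inj {k : ℤ} (hk : k ≠ 0) {x y : RuVec} (h : k • x = k • y) : x = y :=
  ext_co fun r _ ↦ by
    have := congrArg (co · r) h
    simp only [co_zsmul] at this
    exact mul_left_cancel₀ hk this

/-- Four times the linear map with the coded axis images `R`. -/
def Lv (R : ℕ → ℕ) (x : RuVec) : RuVec :=
  ∑ r ∈ Finset.range 56, co x r • vec (R r)

theorem co_Lv (R : ℕ → ℕ) (x : RuVec) (j : ℕ) (hj : j < 56) :
    co (Lv R x) j = ∑ r ∈ Finset.range 56, co x r * cf (R r) j := by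
  show coHom j _ = _
  rw [Lv, map_sum]
  refine Finset.sum_congr rfl fun r _ ↦ ?_
  rw [map_zsmul, smul_eq_mul]
  show co x r * co (vec (R r)) j = _
  rw [co_vec _ _ hj]

theorem Lv_add (R : ℕ → ℕ) (x y : RuVec) : Lv R (x + y) = Lv R x + Lv R y := by
  simp only [Lv, co_add, add_zsmul, Finset.sum_add_distrib]

theorem Lv_zero (R : ℕ → ℕ) : Lv R 0 = 0 := by simp [Lv, co_zero]

theorem Lv_neg (R : ℕ → ℕ) (x : RuVec) : Lv R (-x) = -Lv R x := by
  simp only [Lv, co_neg, neg_zsmul, Finset.sum_neg_distrib]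

/-- The axis images commute with `i`. -/
def IRows (R : ℕ → ℕ) : Prop := ∀ c < 28, Good (R (2 * c)) ∧ R (2 * c + 1) = iC (R (2 * c))

theorem Lv_iMul {R : ℕ → ℕ} (hR : IRows R) (x : RuVec) : Lv R (iMul x) = iMul (Lv R x) := by
  show _ = iHom _
  rw [Lv, Lv, map_sum, show (56 : ℕ) = 2 * 28 from rfl,
    ← sum_pairs (fun r ↦ co (iMul x) r • vec (R r)) 28,
    ← sum_pairs (fun r ↦ iHom (co x r • vec (R r))) 28]
  refine Finset.sum_congr rfl fun c hc ↦ ?_
  have hc' := Finset.mem_range.1 hc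
  obtain ⟨hg, he⟩ := hR c hc'
  obtain ⟨h1, h2⟩ := co_iMul x c hc'
  show co (iMul x) (2 * c) • vec (R (2 * c)) + co (iMul x) (2 * c + 1) • vec (R (2 * c + 1)) =
    iMul (co x (2 * c) • vec (R (2 * c))) + iMul (co x (2 * c + 1) • vec (R (2 * c + 1)))
  rw [h1, h2, iMul_zsmul, iMul_zsmul, he, vec_iC hg, iMul_iMul, neg_zsmul, zsmul_neg, add_comm]

/-- The axis images are orthogonal of norm sixteen. -/
def Orth (R : ℕ → ℕ) : Prop :=
  ∀ r < 56, ∀ s < 56, dotC (R r) (R s) = if r = s then 16 else 0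

theorem dot_Lv {R : ℕ → ℕ} (hR : Orth R) (x y : RuVec) : dot (Lv R x) (Lv R y) = 16 * dot x y := by
  have e : ∀ r, r ∈ Finset.range 56 → dot (vec (R r)) (Lv R y) = 16 * co y r := fun r hr ↦ by
    show dotHom (vec (R r)) (Lv R y) = _
    rw [Lv, map_sum, Finset.sum_eq_single_of_mem r hr]
    · rw [map_zsmul, smul_eq_mul]
      show co y r * dot (vec (R r)) (vec (R r)) = _
      rw [dot_vec, hR r (Finset.mem_range.1 hr) r (Finset.mem_range.1 hr), if_pos rfl, mul_comm]
    · intro s hs hsr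
      rw [map_zsmul]
      show co y s • dot (vec (R r)) (vec (R s)) = 0
      rw [dot_vec, hR r (Finset.mem_range.1 hr) s (Finset.mem_range.1 hs), if_neg (Ne.symm hsr),
        smul_zero]
  rw [dot_comm (Lv R x)]
  show dotHom (Lv R y) (Lv R x) = _
  conv_lhs => arg 2; unfold Lv
  rw [map_sum, dot_co, Finset.mul_sum]
  refine Finset.sum_congr rfl fun r hr ↦ ?_
  rw [map_zsmul, smul_eq_mul]
  show co x r * dot (Lv R y) (vec (R r)) = _
  rw [dot_comm, e r hr]
  ring

end Cfsg.Agent.RuModel
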